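import Cfsg.Agent.Lib.Fusion.Model.Biset

/-!
The canonical biset of a centric normal subgroup.
-/

set_option autoImplicit false
set_option linter.unusedSectionVars false

universe u

namespace Cfsg.FusionSystem.ModelSetup

variable {Ω : Type u} [Group Ω] {S : Subgroup Ω} {F : FusionSystem S} {p : ℕ} {Q : Subgroup Ω}
variable [Finite S] [Fact p.Prime] (h : ModelSetup F p Q)

/-- The partition of `Aut_F(Q)` into double cosets. -/
@[instance_reducible]
def dosetSetoid : Setoid (F.autGroup Q) where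
  r g g' := ∃ m : S × S, g' = h.res m.1 * g * (h.res m.2)⁻¹
  iseqv := ⟨fun g => ⟨1, by simp⟩, fun {g g'} ⟨m, hm⟩ => ⟨m⁻¹, by simp [hm, mul_assoc]⟩,
    fun {g g' g''} ⟨m, hm⟩ ⟨m', hm'⟩ => ⟨m' * m, by simp [hm, hm', mul_assoc]⟩⟩

/-- The part of `S` on which `g⁻¹` is defined. -/
def dom (g : F.autGroup Q) : Subgroup S :=
  h.res.range.comap ((MulAut.conj g⁻¹).toMonoidHom.comp h.res)

theorem mem_dom {g : F.autGroup Q} {r : S} : r ∈ h.dom g ↔ g⁻¹ * h.res r * g ∈ h.res.range := by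
  simp [dom, Subgroup.mem_comap]

theorem Q_le_dom (g : F.autGroup Q) : Q ≤ (h.dom g).map S.subtype := by
  intro q hq
  refine ⟨⟨q, h.le hq⟩, h.mem_dom.mpr ⟨_, (h.res_aut g⁻¹ (q := ⟨q, h.le hq⟩) hq).trans (by rw [inv_inv])⟩, rfl⟩

theorem exists_dom_map (g : F.autGroup Q) : ∃ ψ ∈ F.Hom ((h.dom g).map S.subtype), ∀ (q : Ω) (hq : q ∈ Q),
    ψ ⟨q, h.Q_le_dom g hq⟩ = ((((g⁻¹ : F.autGroup Q) : MulAut Q) ⟨q, hq⟩ : Q) : Ω) :=
  h.exists_ext g⁻¹ (h.Q_le_dom g) (Subgroup.map_subtype_le _) fun r hr => by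
    obtain ⟨r', hr', e⟩ := hr
    obtain rfl : r' = r := Subtype.ext e
    rw [inv_inv]
    exact h.mem_dom.mp hr'

/-- The chosen map on `dom g`. -/
noncomputable def domMap (g : F.autGroup Q) : h.dom g →* S where
  toFun r := ⟨(h.exists_dom_map g).choose ⟨((r : S) : Ω), ⟨r, r.2, rfl⟩⟩,
    F.apply_mem (h.exists_dom_map g).choose_spec.1 _⟩
  map_one' := by
    apply Subtype.ext
    show (h.exists_dom_map g).choose ⟨((1 : S) : Ω), _⟩ = 1
    exact map_one _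
  map_mul' r r' := by
    apply Subtype.ext
    show (h.exists_dom_map g).choose _ = (h.exists_dom_map g).choose _ * (h.exists_dom_map g).choose _
    rw [← map_mul]
    rfl

theorem res_domMap (g : F.autGroup Q) (r : h.dom g) :
    h.res (h.domMap g r) = g⁻¹ * h.res r * g := by
  obtain ⟨hψ, hψQ⟩ := (h.exists_dom_map g).choose_spec
  have h1 := h.res_map hψ (h.Q_le_dom g) g⁻¹ hψQ r ⟨r, r.2, rfl⟩
  rw [inv_inv] at h1
  exact h1

/-- The stabiliser of a base point. -/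
noncomputable def delta (g : F.autGroup Q) : Subgroup (S × S) :=
  ((h.dom g).subtype.prod (h.domMap g)).range

/-- The canonical biset. -/
def Carrier : Type u := Σ d : Quotient h.dosetSetoid, (S × S) ⧸ h.delta d.out

noncomputable instance : MulAction (S × S) h.Carrier where
  smul m x := ⟨x.1, m • x.2⟩
  one_smul x := by
    show (⟨x.1, (1 : S × S) • x.2⟩ : h.Carrier) = x
    rw [one_smul]
    rfl
  mul_smul m m' x := by
    show (⟨x.1, (m * m') • x.2⟩ : h.Carrier) = ⟨x.1, m • m' • x.2⟩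
    rw [mul_smul]

instance : Finite h.Carrier := by
  haveI := h.finite_aut
  unfold Carrier
  infer_instance

theorem pi_aux (g : F.autGroup Q) (m m' : S × S) (e : m⁻¹ * m' ∈ h.delta g) :
    h.res m.1 * g * (h.res m.2)⁻¹ = h.res m'.1 * g * (h.res m'.2)⁻¹ := by
  obtain ⟨r, hr⟩ := e
  have e' : m' = m * ((r : S), h.domMap g r) := by
    rw [show ((r : S), h.domMap g r) = m⁻¹ * m' from hr, mul_inv_cancel_left]
  rw [e']
  simp [h.res_domMap, mul_assoc]

/-- The map to `Aut_F(Q)`. -/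
noncomputable def proj (x : h.Carrier) : F.autGroup Q :=
  Quotient.liftOn' x.2 (fun m => h.res m.1 * x.1.out * (h.res m.2)⁻¹)
    (fun m m' e => h.pi_aux _ m m' (QuotientGroup.leftRel_apply.mp e))

theorem isBiset_carrier : h.IsBiset h.Carrier h.proj := by
  have hmk : ∀ (d : Quotient h.dosetSetoid) (m : S × S),
      h.proj (⟨d, (m : (S × S) ⧸ h.delta d.out)⟩ : h.Carrier) = h.res m.1 * d.out * (h.res m.2)⁻¹ :=
    fun d m => rfl
  have hsmul : ∀ (d : Quotient h.dosetSetoid) (n m : S × S),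
      n • (⟨d, (m : (S × S) ⧸ h.delta d.out)⟩ : h.Carrier) = ⟨d, ((n * m : S × S) : (S × S) ⧸ h.delta d.out)⟩ :=
    fun d n m => rfl
  have hfix : ∀ (d : Quotient h.dosetSetoid) (n m : S × S),
      n • (⟨d, (m : (S × S) ⧸ h.delta d.out)⟩ : h.Carrier) = ⟨d, (m : (S × S) ⧸ h.delta d.out)⟩ ↔
        m⁻¹ * n * m ∈ h.delta d.out := by
    intro d n m
    rw [hsmul, Sigma.mk.injEq, heq_iff_eq, eq_comm (a := ((n * m : S × S) : (S × S) ⧸ h.delta d.out)),
      QuotientGroup.eq, mul_assoc]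
    simp
  have cases : ∀ x : h.Carrier, ∃ d m, x = (⟨d, ((m : S × S) : (S × S) ⧸ h.delta d.out)⟩ : h.Carrier) := by
    rintro ⟨d, q⟩
    induction q using QuotientGroup.induction_on with
    | _ m => exact ⟨d, m, rfl⟩
  refine ⟨fun n x => ?_, fun g => ?_, fun t x hx => ?_, fun x y e => ?_, fun x R hQR hRS hR => ?_⟩
  · obtain ⟨d, m, rfl⟩ := cases x
    refine (congrArg h.proj (hsmul d n m)).trans ?_
    rw [hmk, hmk]
    simp [mul_assoc]
  · let d : Quotient h.dosetSetoid := Quotient.mk _ g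
    obtain ⟨m, hm⟩ : h.dosetSetoid.r d.out g := Quotient.mk_out g
    exact ⟨⟨d, (m : (S × S) ⧸ h.delta d.out)⟩, hm.symm⟩
  · obtain ⟨d, m, rfl⟩ := cases x
    obtain ⟨r, hr⟩ := (hfix d _ m).mp hx
    rw [Prod.ext_iff] at hr
    simp only [Prod.fst_mul, Prod.snd_mul, Prod.fst_inv, Prod.snd_inv, mul_one, inv_mul_cancel,
      MonoidHom.prod_apply, Subgroup.coe_subtype] at hr
    obtain rfl : r = 1 := Subtype.ext hr.1
    have h1 := hr.2
    rw [map_one] at h1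
    have h2 : t = m.2 * (m.2⁻¹ * t * m.2) * m.2⁻¹ := by group
    rw [← h1, mul_one, mul_inv_cancel] at h2
    exact h2
  · obtain ⟨d, m, rfl⟩ := cases x
    obtain ⟨d', m', rfl⟩ := cases y
    rw [hmk, hmk] at e
    obtain rfl : d = d' := by
      rw [← d.out_eq, ← d'.out_eq]
      refine Quotient.sound ⟨m'⁻¹ * m, ?_⟩
      rw [Prod.fst_mul, Prod.snd_mul, map_mul, map_mul, Prod.fst_inv, Prod.snd_inv, map_inv, map_inv]
      calc d'.out = (h.res m'.1)⁻¹ * (h.res m'.1 * d'.out * (h.res m'.2)⁻¹) * h.res m'.2 := by group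
        _ = _ := by rw [← e]; group
    have hc : d.out⁻¹ * h.res (m.1⁻¹ * m'.1) * d.out = h.res (m.2⁻¹ * m'.2) := by
      rw [map_mul, map_mul, map_inv, map_inv]
      calc _ = d.out⁻¹ * (h.res m.1)⁻¹ * (h.res m'.1 * d.out * (h.res m'.2)⁻¹) * h.res m'.2 := by group
        _ = _ := by rw [← e]; group
    have hr : m.1⁻¹ * m'.1 ∈ h.dom d.out := h.mem_dom.mpr ⟨_, hc.symm⟩
    let r : h.dom d.out := ⟨_, hr⟩
    refine ⟨m'.2 * (h.domMap d.out r)⁻¹ * m.2⁻¹, ?_, ?_⟩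
    · rw [MonoidHom.mem_ker, map_mul, map_mul, map_inv, map_inv, h.res_domMap]
      show _ * (d.out⁻¹ * h.res (m.1⁻¹ * m'.1) * d.out)⁻¹ * _ = 1
      rw [hc, map_mul, map_inv]
      group
    · refine Eq.trans ?_ (hsmul d _ m).symm
      refine congrArg (Sigma.mk d) ?_
      rw [eq_comm, QuotientGroup.eq]
      refine ⟨r, ?_⟩
      ext1
      · show m.1⁻¹ * m'.1 = _
        simp [mul_assoc]
      · show h.domMap d.out r = _
        simp [mul_assoc]
  · obtain ⟨d, m, rfl⟩ := cases x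
    rw [hmk] at hR
    have hdom : ∀ r : S, (r : Ω) ∈ R → m.1⁻¹ * r * m.1 ∈ h.dom d.out := by
      intro r hr
      obtain ⟨t, ht⟩ := hR r hr
      refine h.mem_dom.mpr ⟨m.2⁻¹ * t * m.2, ?_⟩
      rw [map_mul, map_mul, map_inv, ht, map_mul, map_mul, map_inv]
      group
    obtain ⟨hψ, hψQ⟩ := (h.exists_dom_map d.out).choose_spec
    have hmem : ∀ x : R, conjHom R (m.1 : Ω)⁻¹ x ∈ (h.dom d.out).map S.subtype := fun x => by
      refine Subgroup.mem_map.mpr ⟨m.1⁻¹ * ⟨(x : Ω), hRS x.2⟩ * m.1, hdom _ x.2, ?_⟩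
      show (m.1 : Ω)⁻¹ * x * m.1 = conjHom R (m.1 : Ω)⁻¹ x
      rw [conjHom_apply, inv_inv]
    obtain ⟨α, hα, hαe⟩ := F.exists_comp (F.conj_mem (g := (m.1 : Ω)⁻¹) hRS (S.inv_mem m.1.2)) hψ hmem
    obtain ⟨χ, hχ, hχe⟩ := F.exists_comp hα (F.conj_mem (P := S) (g := (m.2 : Ω)) le_rfl m.2.2)
      (fun x => F.apply_mem hα x)
    have hval : ∀ (r : S) (hr : (r : Ω) ∈ R),
        χ ⟨r, hr⟩ = ((m.2 * h.domMap d.out ⟨_, hdom r hr⟩ * m.2⁻¹ : S) : Ω) := by
      intro r hr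
      rw [hχe, conjHom_apply]
      show (m.2 : Ω) * α ⟨r, hr⟩ * (m.2 : Ω)⁻¹ = _
      rw [hαe]
      show _ = (m.2 : Ω) * (h.exists_dom_map d.out).choose _ * (m.2 : Ω)⁻¹
      congr 3
      apply Subtype.ext
      show conjHom R (m.1 : Ω)⁻¹ ⟨r, hr⟩ = (m.1 : Ω)⁻¹ * r * m.1
      rw [conjHom_apply, inv_inv]
    refine ⟨χ, hχ, fun q hq hr => ?_, fun r t hr => ?_⟩
    · rw [hval ⟨q, hRS hr⟩ hr, hmk]
      have e1 : (((((h.res m.1 * d.out * (h.res m.2)⁻¹)⁻¹ : F.autGroup Q) : MulAut Q) ⟨q, hq⟩ : Q) : Ω) =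
          (((h.res m.2 * d.out⁻¹ * h.res m.1⁻¹ : F.autGroup Q) : MulAut Q) ⟨q, hq⟩ : Q) := by
        rw [show (h.res m.1 * d.out * (h.res m.2)⁻¹)⁻¹ = h.res m.2 * d.out⁻¹ * h.res m.1⁻¹ by rw [map_inv]; group]
      rw [e1]
      show _ = (((h.res m.2 : F.autGroup Q) : MulAut Q) (((d.out⁻¹ : F.autGroup Q) : MulAut Q)
        (((h.res m.1⁻¹ : F.autGroup Q) : MulAut Q) ⟨q, hq⟩)) : Ω)
      rw [h.res_apply]
      show (m.2 : Ω) * (h.exists_dom_map d.out).choose _ * (m.2 : Ω)⁻¹ = _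
      congr 2
      refine (congrArg _ ?_).trans (hψQ _ (((h.res m.1⁻¹ : F.autGroup Q) : MulAut Q) ⟨q, hq⟩).2)
      apply Subtype.ext
      show (m.1 : Ω)⁻¹ * q * m.1 = (((h.res m.1⁻¹ : F.autGroup Q) : MulAut Q) ⟨q, hq⟩ : Ω)
      rw [h.res_apply]
      simp
    · refine (hfix d (r, t) m).trans ?_
      constructor
      · rintro ⟨r', hr'⟩
        have h1 : (r' : S) = m.1⁻¹ * r * m.1 := congrArg Prod.fst hr'
        have h2 : h.domMap d.out r' = m.2⁻¹ * t * m.2 := congrArg Prod.snd hr'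
        rw [hval r hr]
        rw [show (⟨_, hdom r hr⟩ : h.dom d.out) = r' from Subtype.ext h1.symm, h2]
        simp [mul_assoc]
      · intro ht
        refine ⟨⟨_, hdom r hr⟩, Prod.ext rfl ?_⟩
        show h.domMap d.out _ = m.2⁻¹ * t * m.2
        rw [show t = m.2 * h.domMap d.out ⟨_, hdom r hr⟩ * m.2⁻¹ from Subtype.ext (ht.symm.trans (hval r hr))]
        simp [mul_assoc]

end Cfsg.FusionSystem.ModelSetup
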