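import Cfsg.Agent.Lib.Fusion.Model.Group
import Cfsg.Agent.Lib.Fusion.Model.Canonical

/-!
The model theorem: existence, uniqueness and rigidity of models of constrained systems.
-/

set_option autoImplicit false
set_option linter.unusedSectionVars false

universe u v w

namespace Cfsg.FusionSystem

variable {Ω : Type u} [Group Ω] {S : Subgroup Ω} {F : FusionSystem S} {p : ℕ} {Q : Subgroup Ω}
variable [Finite S] [Fact p.Prime]

theorem IsConstrained.setup_core (hS : IsPGroup p S) (hF : F.IsConstrained p) : ModelSetup F p F.core := by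
  obtain ⟨hsat, R, hR, hRc⟩ := hF
  exact ⟨hS, hsat, (isNormal_core F), isCentric_of_le hRc hR.le_core (isNormal_core F).1⟩

theorem ModelSetup.exists_isModel (h : ModelSetup F p Q) :
    ∃ (G : Type u) (_ : Group G) (ι : S →* G), F.IsModel p G ι :=
  ⟨h.Ext h.isBiset_carrier, inferInstance, h.extι h.isBiset_carrier, (h.isExt_ext h.isBiset_carrier).isModel h⟩

variable {G : Type v} [Group G] {ι : S →* G}

/-- A normal subgroup of the system gives a normal subgroup of any model. -/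
theorem IsModel.normal_map (hG : F.IsModel p G ι) {R : Subgroup Ω} (hR : F.IsNormal R) :
    ((R.subgroupOf S).map ι).Normal := by
  obtain ⟨hfin, ⟨hinj, hiff⟩, ⟨T, hT⟩, hC⟩ := hG
  have hle : pCore p G ≤ ι.range := hT ▸ CfsgLib.pCore_le_sylow T
  let O : Subgroup Ω := ((pCore p G).comap ι).map S.subtype
  have hOS : O ≤ S := Subgroup.map_subtype_le _
  constructor
  rintro _ ⟨r, hr, rfl⟩ g
  let j : O →* G := (MulAut.conj g).toMonoidHom.comp (ι.comp (Subgroup.inclusion hOS))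
  have hjm : ∀ x, j x ∈ pCore p G := by
    intro x
    obtain ⟨y, hy, e⟩ := x.2
    show g * ι ⟨(x : Ω), hOS x.2⟩ * g⁻¹ ∈ pCore p G
    rw [show (⟨(x : Ω), hOS x.2⟩ : S) = y from Subtype.ext e.symm]
    exact (inferInstance : (pCore p G).Normal).conj_mem _ hy g
  let φ : O →* Ω := S.subtype.comp
    ((MonoidHom.ofInjective hinj).symm.toMonoidHom.comp (j.codRestrict ι.range fun x => hle (hjm x)))
  have hφS : ∀ x, φ x ∈ S := fun x => SetLike.coe_mem _
  have hφe : ∀ x, ι ⟨φ x, hφS x⟩ = g * ι ⟨(x : Ω), hOS x.2⟩ * g⁻¹ := fun x =>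
    congrArg Subtype.val ((MonoidHom.ofInjective hinj).apply_symm_apply
      (j.codRestrict ι.range (fun x => hle (hjm x)) x))
  have hφ : φ ∈ F.Hom O := (hiff O hOS φ hφS).mpr ⟨g, hφe⟩
  obtain ⟨ψ, hψ, hψe, hψR⟩ := hR.2 O φ hφ
  obtain ⟨g', hg'⟩ := (hiff _ (F.source_le hψ) ψ (F.apply_mem hψ)).mp hψ
  have hcen : g'⁻¹ * g ∈ Subgroup.centralizer (pCore p G : Set G) := by
    refine Subgroup.mem_centralizer_iff.mpr fun y hy => ?_
    obtain ⟨s, rfl⟩ := hle hy
    have hsO : (s : Ω) ∈ O := ⟨s, hy, rfl⟩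
    have h1 := hg' ⟨s, Subgroup.mem_sup_left hsO⟩
    have h2 := hφe ⟨s, hsO⟩
    have e : (⟨ψ ⟨s, Subgroup.mem_sup_left hsO⟩, F.apply_mem hψ _⟩ : S) = ⟨φ ⟨s, hsO⟩, hφS _⟩ :=
      Subtype.ext (hψe ⟨s, hsO⟩)
    have h3 : g * ι s * g⁻¹ = g' * ι s * g'⁻¹ := h2.symm.trans ((congrArg ι e).symm.trans h1)
    calc ι s * (g'⁻¹ * g) = g'⁻¹ * (g' * ι s * g'⁻¹) * g := by group
      _ = g'⁻¹ * g * ι s := by rw [← h3]; group
  obtain ⟨s, hs⟩ := hle (hC hcen)
  have hr1 : (s : Ω) * r * (s : Ω)⁻¹ ∈ R :=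
    (Subgroup.mem_normalizer_iff.mp (hR.le_normalizer s.2) _).mp hr
  refine ⟨⟨ψ ⟨_, Subgroup.mem_sup_right hr1⟩, F.apply_mem hψ _⟩, hψR.le ⟨_, hr1, rfl⟩, ?_⟩
  rw [hg', show g = g' * ι s by rw [hs, mul_inv_cancel_left]]
  show g' * ι (s * r * s⁻¹) * g'⁻¹ = _
  rw [map_mul, map_mul, map_inv]
  group

/-- In a model of a constrained system, `O_p` corresponds to the largest normal subgroup of the system. -/
theorem IsModel.map_core (hS : IsPGroup p S) (hG : F.IsModel p G ι) :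
    (F.core.subgroupOf S).map ι = pCore p G := by
  refine le_antisymm (le_sSup ⟨hG.normal_map (isNormal_core F), (hS.to_subgroup _).map ι⟩) ?_
  obtain ⟨hfin, ⟨hinj, hiff⟩, ⟨T, hT⟩, hC⟩ := hG
  have hle : pCore p G ≤ ι.range := hT ▸ CfsgLib.pCore_le_sylow T
  intro y hy
  obtain ⟨s, rfl⟩ := hle hy
  let O : Subgroup Ω := ((pCore p G).comap ι).map S.subtype
  have hOS : O ≤ S := Subgroup.map_subtype_le _
  have hmem : ∀ (x : Ω) (hx : x ∈ S), x ∈ O ↔ ι ⟨x, hx⟩ ∈ pCore p G := fun x hx =>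
    ⟨fun ⟨z, hz, he⟩ => by rw [show (⟨x, hx⟩ : S) = z from Subtype.ext he.symm]; exact hz,
      fun h => ⟨⟨x, hx⟩, h, rfl⟩⟩
  have hO : F.IsNormal O := by
    refine ⟨hOS, fun P φ hφ => ?_⟩
    have hPS := F.source_le hφ
    obtain ⟨g, hg⟩ := (hiff P hPS φ (F.apply_mem hφ)).mp hφ
    let j : ↥(P ⊔ O) →* G := (MulAut.conj g).toMonoidHom.comp (ι.comp (Subgroup.inclusion (sup_le hPS hOS)))
    have hj : ∀ x, j x ∈ ι.range := by
      have h : P ⊔ O ≤ (ι.range.comap ((MulAut.conj g).toMonoidHom.comp ι)).map S.subtype := by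
        refine sup_le (fun x hx => ⟨⟨x, hPS hx⟩, ⟨_, hg ⟨x, hx⟩⟩, rfl⟩)
          (fun x hx => ⟨⟨x, hOS hx⟩, hle ?_, rfl⟩)
        exact (inferInstance : (pCore p G).Normal).conj_mem _ ((hmem x (hOS hx)).mp hx) g
      intro x
      obtain ⟨y, hy, hyx⟩ := h x.2
      show g * ι ⟨x, _⟩ * g⁻¹ ∈ ι.range
      rw [show (⟨(x : Ω), sup_le hPS hOS x.2⟩ : S) = y from Subtype.ext hyx.symm]
      exact hy
    let ψ : ↥(P ⊔ O) →* Ω :=
      S.subtype.comp ((MonoidHom.ofInjective hinj).symm.toMonoidHom.comp (j.codRestrict ι.range hj))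
    have hψS : ∀ x, ψ x ∈ S := fun x => SetLike.coe_mem _
    have hψe : ∀ x, ι ⟨ψ x, hψS x⟩ = g * ι ⟨x, sup_le hPS hOS x.2⟩ * g⁻¹ := fun x =>
      congrArg Subtype.val ((MonoidHom.ofInjective hinj).apply_symm_apply (j.codRestrict ι.range hj x))
    have hψ : ψ ∈ F.Hom (P ⊔ O) := (hiff _ (sup_le hPS hOS) ψ hψS).mpr ⟨g, hψe⟩
    refine ⟨ψ, hψ, fun x => ?_, ?_⟩
    · exact congrArg Subtype.val (hinj ((hψe (Subgroup.inclusion le_sup_left x)).trans (hg x).symm) :
        (⟨_, hψS _⟩ : S) = ⟨φ x, F.apply_mem hφ x⟩)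
    · have := finite_of_le (sup_le hPS hOS)
      have := finite_of_le hOS
      refine Subgroup.eq_of_le_of_card_ge ?_ ?_
      · rintro _ ⟨x, hx, rfl⟩
        refine (hmem _ (hψS x)).mpr ?_
        rw [hψe]
        exact (inferInstance : (pCore p G).Normal).conj_mem _ ((hmem x _).mp hx) g
      · rw [Subgroup.card_map_of_injective (F.injective_of_mem hψ),
          Nat.card_congr (Subgroup.subgroupOfEquivOfLe (le_sup_right : O ≤ P ⊔ O)).toEquiv]
  exact ⟨s, hO.le_core ((hmem s s.2).mpr hy), rfl⟩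

theorem IsModel.exists_isExt (hS : IsPGroup p S) (hF : F.IsConstrained p) (hG : F.IsModel p G ι) :
    ∃ pr : G →* F.autGroup F.core, (hF.setup_core hS).IsExt G ι pr := by
  refine (hF.setup_core hS).exists_isExt_of_isModel hG (hG.normal_map (isNormal_core F)) fun g hg => ?_
  have h1 := hG.map_core hS
  obtain ⟨hfin, -, ⟨T, hT⟩, hC⟩ := hG
  have hle : pCore p G ≤ ι.range := hT ▸ CfsgLib.pCore_le_sylow T
  refine hle (hC (Subgroup.mem_centralizer_iff.mpr fun y hy => ?_))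
  rw [← h1] at hy
  obtain ⟨q, hq, rfl⟩ := hy
  calc ι q * g = g * ι q * g⁻¹ * g := by rw [hg q hq]
    _ = g * ι q := by group

theorem exists_equiv_of_isModel {G' : Type w} [Group G'] {ι' : S →* G'} (hS : IsPGroup p S)
    (hF : F.IsConstrained p) (hG : F.IsModel p G ι) (hG' : F.IsModel p G' ι') :
    ∃ Φ : G ≃* G', ∀ s, Φ (ι s) = ι' s := by
  obtain ⟨pr, hpr⟩ := hG.exists_isExt hS hF
  obtain ⟨pr', hpr'⟩ := hG'.exists_isExt hS hF
  let h := hF.setup_core hS
  obtain ⟨Φ, hΦ⟩ := h.exists_equiv_ext h.isBiset_carrier hpr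
  obtain ⟨Φ', hΦ'⟩ := h.exists_equiv_ext h.isBiset_carrier hpr'
  exact ⟨Φ.trans Φ'.symm, fun s => by rw [MulEquiv.trans_apply, hΦ, MulEquiv.symm_apply_eq, hΦ']⟩

theorem ModelSetup.IsExt.rigid {h : ModelSetup F p Q} {pr : G →* F.autGroup Q} (hG : h.IsExt G ι pr)
    (ψ : G ≃* G) (hψ : ∀ s, ψ (ι s) = ι s) :
    ∃ z : S, z ∈ Subgroup.center S ∧ ∀ g, ψ g = ι z * g * (ι z)⁻¹ := by
  classical
  haveI := hG.finite
  have := h.finite_aut
  haveI := h.finite_cosets
  have hpr : ∀ g, pr (ψ g) = pr g := fun g => ModelSetup.aut_ext fun q => by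
    have h1 := congrArg ψ (hG.conj g q)
    rw [map_mul, map_mul, map_inv, hψ, hψ, hG.conj] at h1
    exact congrArg (fun w : S => (w : Ω)) (hG.inj h1)
  have hz : ∀ g, ∃ z : h.res.ker, ι (z : S) = ψ g * g⁻¹ := fun g => by
    obtain ⟨z, hz, hze⟩ := hG.ker (ψ g * g⁻¹) (by rw [map_mul, map_inv, hpr, mul_inv_cancel])
    exact ⟨⟨z, hz⟩, hze⟩
  choose e he using hz
  have hact : ∀ (g : G) (z : h.res.ker), ι (h.act (pr g) z : S) = g * ι (z : S) * g⁻¹ := fun g z =>
    (hG.conj g ⟨((z : S) : Ω), h.mem_of_mem_ker z.2⟩).symm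
  have hee : ∀ g g', e (g * g') = e g * h.act (pr g) (e g') := fun g g' => by
    refine Subtype.ext (hG.inj ?_)
    rw [Subgroup.coe_mul, map_mul ι, hact, he, he, he, map_mul]
    group
  have hes : ∀ g (s : S), e (g * ι s) = e g := fun g s => by
    refine Subtype.ext (hG.inj ?_)
    rw [he, he, map_mul, hψ]
    group
  haveI : Finite (G ⧸ ι.range) := inferInstance
  haveI := Fintype.ofFinite (G ⧸ ι.range)
  let w : h.res.ker := ∏ c : G ⧸ ι.range, e c.out
  have hm : Nat.card (G ⧸ ι.range) = Nat.card h.Cosets := by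
    have h1 : Nat.card ι.range * Nat.card (G ⧸ ι.range) =
        Nat.card h.res.ker * Nat.card (F.autGroup Q) := by
      rw [← hG.card h, mul_comm, ← Subgroup.card_eq_card_quotient_mul_card_subgroup]
    have h2 : Nat.card ι.range = Nat.card h.res.ker * Nat.card h.res.range := by
      rw [← Nat.card_congr (MonoidHom.ofInjective hG.inj).toEquiv, ← Subgroup.index_ker,
        Subgroup.card_mul_index]
    rw [h2, mul_assoc, Subgroup.card_eq_card_quotient_mul_card_subgroup h.res.range,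
      mul_comm (Nat.card (F.autGroup Q ⧸ h.res.range))] at h1
    exact Nat.eq_of_mul_eq_mul_left Nat.card_pos (Nat.eq_of_mul_eq_mul_left Nat.card_pos h1)
  have hw : ∀ g, w = e g ^ Nat.card h.Cosets * h.act (pr g) w := fun g => by
    have hc : ∀ c : G ⧸ ι.range, e ((g • c).out) = e g * h.act (pr g) (e c.out) := fun c => by
      obtain ⟨s, hs⟩ : ∃ s, ι s = (g * c.out)⁻¹ * (g • c).out := by
        refine MonoidHom.mem_range.mp (QuotientGroup.eq.mp ?_)
        show ((g * c.out : G) : G ⧸ ι.range) = _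
        rw [QuotientGroup.out_eq']
        conv_rhs => rw [← QuotientGroup.out_eq' c]
        rfl
      rw [show (g • c).out = g * c.out * ι s by rw [hs, mul_inv_cancel_left], hes, hee]
    calc w = ∏ c : G ⧸ ι.range, e ((g • c).out) :=
          (Equiv.prod_comp (MulAction.toPerm g) fun c : G ⧸ ι.range => e c.out).symm
      _ = ∏ c : G ⧸ ι.range, (e g * h.act (pr g) (e c.out)) := Finset.prod_congr rfl fun c _ => hc c
      _ = _ := by
        rw [Finset.prod_mul_distrib, Finset.prod_const, Finset.card_univ, ← Nat.card_eq_fintype_card, hm,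
          map_prod]
  let z := h.root w
  have hze : ∀ g, ψ g = ι (z : S) * g * (ι (z : S))⁻¹ := fun g => by
    have h1 := congrArg h.root (hw g)
    rw [map_mul, h.root_pow, h.root_act] at h1
    change z = e g * h.act (pr g) z at h1
    have h2 := congrArg (fun y : h.res.ker => ι (y : S)) h1
    rw [Subgroup.coe_mul, map_mul, he, hact] at h2
    calc ψ g = ψ g * g⁻¹ * (g * ι (z : S) * g⁻¹) * g * (ι (z : S))⁻¹ := by group
      _ = _ := by rw [← h2]
  refine ⟨z, Subgroup.mem_center_iff.mpr fun s => hG.inj ?_, hze⟩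
  have h1 := (hψ s).symm.trans (hze (ι s))
  rw [map_mul, map_mul]
  calc ι s * ι (z : S) = ι (z : S) * ι s * (ι (z : S))⁻¹ * ι (z : S) := by rw [← h1]
    _ = ι (z : S) * ι s := by group

end Cfsg.FusionSystem
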