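import Cfsg.Agent.Lib.Fusion.Model.Main
import Cfsg.Agent.Lib.Fusion.Relative

/-!
Models of normalizers of centric subgroups.
-/

set_option autoImplicit false
set_option linter.unusedSectionVars false

universe u

namespace Cfsg.FusionSystem

variable {Ω : Type u} [Group Ω] {S : Subgroup Ω} {F : FusionSystem S} {p : ℕ} {Q : Subgroup Ω}
variable [Finite S]

theorem IsNormalizerSystem.isNormal (hQ : Q ≤ S) {E : FusionSystem (normalizerIn S Q)}
    (hE : F.IsNormalizerSystem Q E) : E.IsNormal Q := by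
  refine ⟨le_normalizerIn hQ, fun P φ hφ => ?_⟩
  rw [hE] at hφ
  obtain ⟨hφF, hPN, hφN, ψ, hψ, hψe, hψQ⟩ := hφ
  refine ⟨ψ, ?_, hψe, hψQ⟩
  rw [hE]
  have hle : P ⊔ Q ≤ normalizerIn S Q := sup_le hPN (le_normalizerIn hQ)
  refine ⟨hψ, hle, fun x => ⟨F.apply_mem hψ x, ?_⟩, ψ.comp (Subgroup.inclusion (sup_le le_rfl le_sup_right)),
    F.restrict_mem hψ _, fun x => rfl, ?_⟩
  · refine apply_mem_normalizer (P := Q) (φ := ψ.comp (Subgroup.inclusion le_sup_right)) le_sup_right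
      (fun q => rfl) ?_ x (hle x.2).2
    rw [range_eq_map_of_le le_sup_right]
    exact hψQ
  · ext y
    constructor
    · rintro ⟨x, hx, rfl⟩
      exact hψQ.le ⟨⟨x, Subgroup.mem_sup_right hx⟩, hx, rfl⟩
    · intro hy
      obtain ⟨x, hx, rfl⟩ := hψQ.ge hy
      exact ⟨⟨x, Subgroup.mem_sup_right hx⟩, hx, rfl⟩

theorem IsNormalizerSystem.isCentric (hQ : F.IsCentric Q) {E : FusionSystem (normalizerIn S Q)}
    (hE : F.IsNormalizerSystem Q E) : E.IsCentric Q := by
  haveI := finite_normalizerIn (S := S) (P := Q)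
  refine ⟨le_normalizerIn hQ.1, fun R hR => ?_⟩
  obtain ⟨φ, hφ, rfl⟩ := hR
  rw [(hE.isNormal hQ.1).stronglyClosed.weaklyClosed.2 φ hφ]
  exact fun x hx => hQ.centralizerIn_le_self ⟨hx.1.1, hx.2⟩

variable [Fact p.Prime]

theorem IsSaturated.normalizer_setup (hF : F.IsSaturated p) (hS : IsPGroup p S) (hQn : F.IsFullyNormalized Q)
    (hQc : F.IsCentric Q) {E : FusionSystem (normalizerIn S Q)} (hE : F.IsNormalizerSystem Q E) :
    haveI := finite_normalizerIn (S := S) (P := Q)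
    ModelSetup E p Q :=
  haveI := finite_normalizerIn (S := S) (P := Q)
  ⟨hS.to_le normalizerIn_le, hF.isSaturated_normalizerSystem hS hQn hE, hE.isNormal hQn.1, hE.isCentric hQc⟩

theorem IsSaturated.normalizer_isConstrained (hF : F.IsSaturated p) (hS : IsPGroup p S)
    (hQn : F.IsFullyNormalized Q) (hQc : F.IsCentric Q) {E : FusionSystem (normalizerIn S Q)}
    (hE : F.IsNormalizerSystem Q E) : E.IsConstrained p :=
  haveI := finite_normalizerIn (S := S) (P := Q)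
  ⟨(hF.normalizer_setup hS hQn hQc hE).saturated, Q, hE.isNormal hQn.1, hE.isCentric hQc⟩

/-- For a radical subgroup the normalizer system has no larger normal subgroup. -/
theorem IsSaturated.core_normalizer_of_radical (hF : F.IsSaturated p) (hS : IsPGroup p S)
    (hQn : F.IsFullyNormalized Q) (hQc : F.IsCentric Q) (hQr : F.IsRadical p Q)
    {E : FusionSystem (normalizerIn S Q)} (hE : F.IsNormalizerSystem Q E) : E.core = Q := by
  haveI := finite_normalizerIn (S := S) (P := Q)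
  haveI := finite_autGroup (F := F) hQc.1
  refine le_antisymm ?_ (hE.isNormal hQn.1).le_core
  have hC := isNormal_core E
  set C := E.core with hCdef
  have hCN : C ≤ normalizerIn S Q := hC.1
  have hQC : Q ≤ C := (hE.isNormal hQn.1).le_core
  have hA : autInducedBy C Q ≤ F.autGroup Q :=
    (autInducedBy_mono (hCN.trans normalizerIn_le)).trans (F.autInducedBy_le_autGroup hQc.1)
  have hnorm : ((autInducedBy C Q).subgroupOf (F.autGroup Q)).Normal := by
    refine ⟨fun c hc a => ?_⟩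
    obtain ⟨g, hg, -, hge⟩ := mem_autInducedBy_iff.mp (Subgroup.mem_subgroupOf.mp hc)
    obtain ⟨α, hα, hαr, hαe⟩ := F.exists_map_of_mem_autGroup hQc.1 a.2
    have hQN : Q ≤ normalizerIn S Q := le_normalizerIn hQn.1
    have hαE : α ∈ E.Hom Q := by
      rw [hE]
      refine ⟨hα, hQN, fun x => hQN (hαr.le ⟨x, rfl⟩), α.comp (Subgroup.inclusion (sup_le le_rfl le_rfl)),
        F.restrict_mem hα _, fun x => rfl, ?_⟩
      ext y
      constructor
      · rintro ⟨x, hx, rfl⟩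
        exact hαr.le ⟨_, rfl⟩
      · intro hy
        obtain ⟨x, rfl⟩ := hαr.ge hy
        exact ⟨⟨x, Subgroup.mem_sup_left x.2⟩, x.2, rfl⟩
    obtain ⟨ψ, hψ, hψe, hψC⟩ := hC.2 Q α hαE
    have hψg : ψ ⟨g, Subgroup.mem_sup_right hg⟩ ∈ C := hψC.le ⟨_, hg, rfl⟩
    refine Subgroup.mem_subgroupOf.mpr (mem_autInducedBy_iff.mpr ⟨_, hψg, (hCN hψg).2, fun x => ?_⟩)
    obtain ⟨y, rfl⟩ := (a : MulAut Q).surjective x
    show (((a : MulAut Q) ((c : MulAut Q) ((a : MulAut Q).symm ((a : MulAut Q) y))) : Q) : Ω) = _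
    rw [MulEquiv.symm_apply_apply, ← hαe, ← hαe, ← hψe, ← hψe, ← map_inv, ← map_mul, ← map_mul]
    exact congrArg ψ (Subtype.ext (hge y))
  have hp : IsPGroup p ((autInducedBy C Q).subgroupOf (F.autGroup Q)) :=
    (isPGroup_autInducedBy (hS.to_le (hCN.trans normalizerIn_le))).of_equiv
      (Subgroup.subgroupOfEquivOfLe hA).symm
  intro g hg
  have hα : Q.normalizerMonoidHom ⟨g, (hCN hg).2⟩ ∈ Inn Q := by
    rw [← hQr.2]
    refine ⟨⟨_, hA (mem_autInducedBy_iff.mpr ⟨g, hg, (hCN hg).2, fun x => rfl⟩)⟩, ?_, rfl⟩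
    exact (le_sSup ⟨hnorm, hp⟩ : _ ≤ pCore p (F.autGroup Q))
      (Subgroup.mem_subgroupOf.mpr (mem_autInducedBy_iff.mpr ⟨g, hg, (hCN hg).2, fun x => rfl⟩))
  rw [inn_eq_autInducedBy] at hα
  obtain ⟨w, hw, -, hwe⟩ := mem_autInducedBy_iff.mp hα
  have hwg : w⁻¹ * g ∈ centralizerIn S Q := by
    refine ⟨mul_mem (S.inv_mem (hQc.1 hw)) (hCN hg).1, Subgroup.mem_centralizer_iff.mpr fun x hx => ?_⟩
    have h1 : g * x * g⁻¹ = w * x * w⁻¹ := hwe ⟨x, hx⟩
    calc x * (w⁻¹ * g) = w⁻¹ * (w * x * w⁻¹) * g := by group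
      _ = w⁻¹ * g * x := by rw [← h1]; group
  have := mul_mem hw (hQc.centralizerIn_le_self hwg)
  rwa [mul_inv_cancel_left] at this

end Cfsg.FusionSystem
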