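import Cfsg.Agent.Lib.Fusion.Model.Setup
import Mathlib.GroupTheory.DoubleCoset

/-!
Bisets over `Aut_F(Q)`: the left-right `S`-set of a model, built from the fusion system.
-/

set_option autoImplicit false
set_option linter.unusedSectionVars false

universe u v w

namespace Cfsg.FusionSystem.ModelSetup

variable {Ω : Type u} [Group Ω] {S : Subgroup Ω} {F : FusionSystem S} {p : ℕ} {Q : Subgroup Ω}
variable [Finite S] [Fact p.Prime] (h : ModelSetup F p Q)

/-- A biset behaving like a model, seen over `Aut_F(Q)`. -/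
structure IsBiset (X : Type v) [MulAction (S × S) X] (π : X → F.autGroup Q) : Prop where
  smul_eq : ∀ (m : S × S) (x : X), π (m • x) = h.res m.1 * π x * (h.res m.2)⁻¹
  surj : Function.Surjective π
  free : ∀ (t : S) (x : X), ((1, t) : S × S) • x = x → t = 1
  fibre : ∀ x y : X, π x = π y → ∃ z ∈ h.res.ker, y = ((1, z) : S × S) • x
  stab : ∀ (x : X) (R : Subgroup Ω), Q ≤ R → R ≤ S →
    (∀ r : S, (r : Ω) ∈ R → (π x)⁻¹ * h.res r * π x ∈ h.res.range) →
    ∃ χ ∈ F.Hom R, (∀ (q : Ω) (hq : q ∈ Q) (hr : q ∈ R),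
        χ ⟨q, hr⟩ = ((((π x)⁻¹ : F.autGroup Q) : MulAut Q) ⟨q, hq⟩ : Q)) ∧
      ∀ (r t : S) (hr : (r : Ω) ∈ R), (r, t) • x = x ↔ χ ⟨r, hr⟩ = t

theorem IsBiset.smul_left_Q {X : Type v} [MulAction (S × S) X] {π : X → F.autGroup Q}
    (hX : h.IsBiset X π) (x : X) (q : Q) :
    ((⟨(q : Ω), h.le q.2⟩, ⟨((((π x)⁻¹ : F.autGroup Q) : MulAut Q) q : Q), h.le (SetLike.coe_mem _)⟩) : S × S) • x = x := by
  have hc : ∀ r : S, (r : Ω) ∈ Q → (π x)⁻¹ * h.res r * π x ∈ h.res.range := by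
    intro r hr
    refine ⟨_, (h.res_aut (π x)⁻¹ hr).trans ?_⟩
    rw [inv_inv]
  obtain ⟨χ, -, hχQ, hχ⟩ := hX.stab x Q le_rfl h.le hc
  exact (hχ _ _ q.2).mpr (hχQ q q.2 q.2)

/-- Two bisets are isomorphic over any map of the system. -/
theorem exists_twist {X : Type v} [MulAction (S × S) X] {πX : X → F.autGroup Q} (hX : h.IsBiset X πX)
    {Y : Type w} [MulAction (S × S) Y] {πY : Y → F.autGroup Q} (hY : h.IsBiset Y πY)
    {R : Subgroup Ω} (hQR : Q ≤ R) {φ : R →* Ω} (hφ : φ ∈ F.Hom R) (a : F.autGroup Q)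
    (ha : ∀ (q : Ω) (hq : q ∈ Q), φ ⟨q, hQR hq⟩ = (((a : MulAut Q) ⟨q, hq⟩ : Q) : Ω)) :
    ∃ θ : X ≃ Y, (∀ x, πY (θ x) = a * πX x) ∧ ∀ (r t : S) (hr : (r : Ω) ∈ R) (x : X),
      θ ((r, t) • x) = ((⟨φ ⟨r, hr⟩, F.apply_mem hφ _⟩, t) : S × S) • θ x := by
  classical
  have hRS : R ≤ S := F.source_le hφ
  let M : Subgroup (S × S) := (R.subgroupOf S).prod ⊤
  let φM : M →* S × S :=
    { toFun := fun m => (⟨φ ⟨(m.1.1 : Ω), m.2.1⟩, F.apply_mem hφ _⟩, m.1.2)
      map_one' := by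
        refine Prod.ext (Subtype.ext ?_) rfl
        show φ ⟨((1 : S) : Ω), _⟩ = 1
        rw [show (⟨((1 : S) : Ω), _⟩ : R) = 1 from rfl, map_one]
      map_mul' := fun m m' => by
        refine Prod.ext (Subtype.ext ?_) rfl
        show φ _ = φ _ * φ _
        rw [← map_mul]
        rfl }
  -- a partner for each point
  have key : ∀ x : X, ∃ y : Y, πY y = a * πX x ∧ ∀ m : M, (m : S × S) • x = x → φM m • y = y := by
    intro x
    obtain ⟨y, hy⟩ := hY.surj (a * πX x)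
    let D : Subgroup Ω := R ⊓ (h.res.range.comap ((MulAut.conj (πX x)⁻¹).toMonoidHom.comp h.res)).map S.subtype
    have hDR : D ≤ R := inf_le_left
    have hDc : ∀ r : S, (r : Ω) ∈ D → (πX x)⁻¹ * h.res r * πX x ∈ h.res.range := by
      intro r hr
      obtain ⟨r', hr', e⟩ := hr.2
      obtain rfl : r' = r := Subtype.ext e
      simpa using hr'
    have hQD : Q ≤ D := by
      intro q hq
      refine ⟨hQR hq, ⟨q, h.le hq⟩, ?_, rfl⟩
      have h1 := hX.smul_eq (⟨q, h.le hq⟩, ⟨((((πX x)⁻¹ : F.autGroup Q) : MulAut Q) ⟨q, hq⟩ : Q),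
        h.le (SetLike.coe_mem _)⟩) x
      rw [hX.smul_left_Q h x ⟨q, hq⟩] at h1
      show MulAut.conj (πX x)⁻¹ (h.res ⟨q, h.le hq⟩) ∈ h.res.range
      refine ⟨⟨((((πX x)⁻¹ : F.autGroup Q) : MulAut Q) ⟨q, hq⟩ : Q), h.le (SetLike.coe_mem _)⟩, ?_⟩
      rw [eq_mul_inv_iff_mul_eq] at h1
      rw [MulAut.conj_apply, inv_inv, mul_assoc, ← h1, inv_mul_cancel_left]
    obtain ⟨χx, hχx, hχxQ, hχxe⟩ := hX.stab x D hQD (hDR.trans hRS) hDc
    let D' : Subgroup Ω := (φ.comp (Subgroup.inclusion hDR)).range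
    have hφD := F.restrict_mem hφ hDR
    have hQD' : Q ≤ D' := by
      intro q hq
      obtain ⟨q', hq'⟩ := (a : MulAut Q).surjective ⟨q, hq⟩
      refine ⟨⟨q', hQD q'.2⟩, ?_⟩
      exact (ha q' q'.2).trans (congrArg Subtype.val hq')
    have hD'c : ∀ r : S, (r : Ω) ∈ D' → (πY y)⁻¹ * h.res r * πY y ∈ h.res.range := by
      rintro r ⟨d, hd⟩
      have e : h.res r = a * h.res ⟨d, hRS (hDR d.2)⟩ * a⁻¹ := by
        rw [← h.res_map hφ hQR a ha ⟨d, hRS (hDR d.2)⟩ (hDR d.2)]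
        exact congrArg h.res (Subtype.ext hd.symm)
      rw [e, hy]
      convert hDc ⟨d, hRS (hDR d.2)⟩ d.2 using 1
      group
    obtain ⟨χy, hχy, hχyQ, hχye⟩ := hY.stab y D' hQD' (F.range_le hφD) hD'c
    obtain ⟨ξ, hξ, hξe⟩ := F.exists_comp hφD hχy (fun d => ⟨d, rfl⟩)
    obtain ⟨z, hzQ, hzC, hz⟩ := exists_conj_of_eqOn h.isPGroup h.saturated h.centric hQD hχx hξ
      (fun d hd => by
        rw [hξe]
        have e : (⟨(φ.comp (Subgroup.inclusion hDR)) d, ⟨d, rfl⟩⟩ : D') =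
            ⟨(((a : MulAut Q) ⟨d, hd⟩ : Q) : Ω), hQD' (SetLike.coe_mem _)⟩ := Subtype.ext (ha d hd)
        rw [e, hχyQ _ (SetLike.coe_mem _) _, hχxQ d hd d.2, hy]
        show _ = (((((a * πX x)⁻¹ : F.autGroup Q) : MulAut Q)) _ : Ω)
        rw [mul_inv_rev]
        show _ = ((((πX x)⁻¹ : F.autGroup Q) : MulAut Q) ((((a)⁻¹ : F.autGroup Q) : MulAut Q) ((a : MulAut Q) ⟨d, hd⟩)) : Ω)
        rw [show (((a)⁻¹ : F.autGroup Q) : MulAut Q) ((a : MulAut Q) ⟨d, hd⟩) = ⟨d, hd⟩ from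
          (a : MulAut Q).symm_apply_apply _])
    let w : S := ⟨χx z, F.apply_mem hχx z⟩
    refine ⟨((1, w⁻¹) : S × S) • y, ?_, ?_⟩
    · have hw : h.res w = 1 := by
        refine h.res_eq_one_iff.mpr (Subgroup.mem_centralizer_iff.mpr fun q hq => ?_)
        obtain ⟨q', hq'⟩ := ((((πX x)⁻¹ : F.autGroup Q)) : MulAut Q).surjective ⟨q, hq⟩
        have e := hχxQ q' q'.2 (hQD q'.2)
        rw [hq'] at e
        show q * χx z = χx z * q
        rw [show q = χx ⟨q', hQD q'.2⟩ from e.symm, ← map_mul, ← map_mul]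
        exact congrArg χx (Subtype.ext (Subgroup.mem_centralizer_iff.mp hzC q' q'.2))
      rw [hY.smul_eq, hy]
      simp [hw]
    · rintro ⟨⟨r, t⟩, hr, htop⟩ (hfix : (r, t) • x = x)
      have hg : h.res r * πX x * (h.res t)⁻¹ = πX x := by rw [← hX.smul_eq (r, t) x, hfix]
      have hrD : (r : Ω) ∈ D := ⟨hr, r, (show MulAut.conj (πX x)⁻¹ (h.res r) ∈ h.res.range from
        ⟨t, by
          rw [MulAut.conj_apply, inv_inv]
          rw [mul_inv_eq_iff_eq_mul] at hg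
          rw [mul_assoc, hg, ← mul_assoc, inv_mul_cancel, one_mul]⟩), rfl⟩
      have ht : χx ⟨r, hrD⟩ = t := (hχxe r t hrD).mp hfix
      have hyfix : ((⟨φ ⟨r, hr⟩, F.apply_mem hφ _⟩, w * t * w⁻¹) : S × S) • y = y := by
        refine (hχye _ _ ⟨⟨r, hrD⟩, rfl⟩).mpr ?_
        have h1 := hz ⟨r, hrD⟩
        rw [hξe, map_mul, map_mul, map_inv, ht] at h1
        exact h1
      show ((⟨φ ⟨r, hr⟩, _⟩, t) : S × S) • ((1, w⁻¹) : S × S) • y = ((1, w⁻¹) : S × S) • y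
      conv_rhs => rw [← hyfix]
      rw [← mul_smul, ← mul_smul]
      congr 1
      simp [mul_assoc]
  let rep : X → X := fun x => (Quotient.mk (MulAction.orbitRel M X) x).out
  have hrep : ∀ x, ∃ m : M, m • rep x = x := fun x => by
    have h1 : (MulAction.orbitRel M X).r x (rep x) := (MulAction.orbitRel M X).symm (Quotient.mk_out x)
    exact MulAction.mem_orbit_iff.mp (MulAction.orbitRel_apply.mp h1)
  choose m hm using hrep
  choose part hpartπ hpart using key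
  let θ : X → Y := fun x => φM (m x) • part (rep x)
  have hθ : ∀ (n : M) (x : X), θ (n • x) = φM n • θ x := by
    intro n x
    have hr : rep (n • x) = rep x :=
      congrArg Quotient.out (Quotient.sound (MulAction.orbitRel_apply.mpr (MulAction.mem_orbit x n)))
    have h1 : ((m x)⁻¹ * n⁻¹ * m (n • x)) • rep x = rep x := by
      rw [mul_smul, mul_smul]
      conv_lhs => rw [← hr, hm, inv_smul_smul]
      rw [inv_smul_eq_iff, hm]
    have h2 := hpart _ _ h1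
    rw [map_mul, map_mul, map_inv, map_inv, mul_smul, mul_smul, inv_smul_eq_iff, inv_smul_eq_iff] at h2
    show φM (m (n • x)) • part (rep (n • x)) = φM n • φM (m x) • part (rep x)
    rw [hr, h2]
  have hπM : ∀ (n : M) (g : F.autGroup Q), h.res (φM n).1 * (a * g) * (h.res (φM n).2)⁻¹ =
      a * (h.res (n : S × S).1 * g * (h.res (n : S × S).2)⁻¹) := by
    intro n g
    show h.res ⟨φ ⟨((n : S × S).1 : Ω), n.2.1⟩, _⟩ * (a * g) * _ = _
    rw [h.res_map hφ hQR a ha _ n.2.1]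
    show _ * (h.res (n : S × S).2)⁻¹ = _
    group
  have hθπ : ∀ x, πY (θ x) = a * πX x := by
    intro x
    show πY (φM (m x) • part (rep x)) = _
    rw [hY.smul_eq, hpartπ, hπM, ← hX.smul_eq]
    exact congrArg (fun y => a * πX y) (hm x)
  have hz : ∀ (z : S) (x : X), θ (((1, z) : S × S) • x) = ((1, z) : S × S) • θ x := by
    intro z x
    refine (hθ ⟨(1, z), Subgroup.one_mem _, trivial⟩ x).trans ?_
    congr 1
    refine Prod.ext (Subtype.ext ?_) rfl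
    show φ ⟨((1 : S) : Ω), _⟩ = 1
    rw [show (⟨((1 : S) : Ω), _⟩ : R) = 1 from rfl, map_one]
  refine ⟨Equiv.ofBijective θ ⟨fun x x' e => ?_, fun y => ?_⟩, hθπ,
    fun r t hr x => hθ ⟨(r, t), hr, trivial⟩ x⟩
  · have h1 : πX x = πX x' := mul_left_cancel ((hθπ x).symm.trans ((congrArg πY e).trans (hθπ x')))
    obtain ⟨z, -, rfl⟩ := hX.fibre x x' h1
    rw [hz] at e
    rw [hY.free z _ e.symm]
    exact (one_smul _ x).symm
  · obtain ⟨x, hx⟩ := hX.surj (a⁻¹ * πY y)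
    obtain ⟨z, -, hze⟩ := hY.fibre (θ x) y (by rw [hθπ, hx, mul_inv_cancel_left])
    exact ⟨((1, z) : S × S) • x, (hz z x).trans hze.symm⟩

end Cfsg.FusionSystem.ModelSetup
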