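import Cfsg.Agent.Lib.Fusion.Model.Biset
import Cfsg.Agent.Lib.Basic

/-!
Extensions of `Aut_F(Q)` that realize the system: these are exactly the models.
-/

set_option autoImplicit false
set_option linter.unusedSectionVars false

universe u v

namespace Cfsg.FusionSystem.ModelSetup

variable {Ω : Type u} [Group Ω] {S : Subgroup Ω} {F : FusionSystem S} {p : ℕ} {Q : Subgroup Ω}
variable [Finite S] [Fact p.Prime] (h : ModelSetup F p Q)

/-- `G` is an extension of `Aut_F(Q)` by `Z(Q)` through which every map of the system is realized. -/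
structure IsExt (G : Type v) [Group G] (ι : S →* G) (pr : G →* F.autGroup Q) : Prop where
  finite : Finite G
  inj : Function.Injective ι
  pr_res : ∀ s : S, pr (ι s) = h.res s
  surj : Function.Surjective pr
  ker : ∀ g : G, pr g = 1 → ∃ z ∈ h.res.ker, ι z = g
  conj : ∀ (g : G) (q : Q),
    g * ι ⟨q, h.le q.2⟩ * g⁻¹ = ι ⟨(((pr g : F.autGroup Q) : MulAut Q) q : Q), h.le (SetLike.coe_mem _)⟩
  realize : ∀ (R : Subgroup Ω) (hQR : Q ≤ R) (ψ : R →* Ω) (hψ : ψ ∈ F.Hom R) (a : F.autGroup Q),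
    (∀ (q : Ω) (hq : q ∈ Q), ψ ⟨q, hQR hq⟩ = (((a : MulAut Q) ⟨q, hq⟩ : Q) : Ω)) →
      ∃ g : G, pr g = a ∧ ∀ (r : S) (hr : (r : Ω) ∈ R),
        g * ι r * g⁻¹ = ι ⟨ψ ⟨r, hr⟩, F.apply_mem hψ _⟩

variable {G : Type v} [Group G] {ι : S →* G} {pr : G →* F.autGroup Q}

theorem IsExt.card (hG : h.IsExt G ι pr) :
    Nat.card G = Nat.card h.res.ker * Nat.card (F.autGroup Q) := by
  have e : pr.ker = h.res.ker.map ι := by
    ext g
    refine ⟨fun hg => ?_, ?_⟩
    · obtain ⟨z, hz, rfl⟩ := hG.ker g hg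
      exact ⟨z, hz, rfl⟩
    · rintro ⟨z, hz, rfl⟩
      exact (hG.pr_res z).trans hz
  rw [← Subgroup.card_mul_index pr.ker, Subgroup.index_ker, MonoidHom.range_eq_top.mpr hG.surj,
    Subgroup.card_top, e, Subgroup.card_map_of_injective hG.inj]

theorem IsExt.not_dvd_index (hG : h.IsExt G ι pr) : ¬ p ∣ ι.range.index := by
  haveI := hG.finite
  have hAfin := h.finite_aut
  have h1 : Nat.card ι.range * ι.range.index = Nat.card h.res.ker * Nat.card (F.autGroup Q) := by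
    rw [Subgroup.card_mul_index, hG.card]
  have h2 : Nat.card ι.range = Nat.card h.res.ker * Nat.card h.res.range := by
    rw [← Nat.card_congr (MonoidHom.ofInjective hG.inj).toEquiv, ← Subgroup.index_ker,
      Subgroup.card_mul_index]
  rw [h2, mul_assoc, ← Subgroup.card_mul_index h.res.range] at h1
  rw [Nat.eq_of_mul_eq_mul_left Nat.card_pos (Nat.eq_of_mul_eq_mul_left Nat.card_pos h1)]
  exact h.not_dvd_index

/-- An extension is a model. -/
theorem IsExt.isModel (hG : h.IsExt G ι pr) : F.IsModel p G ι := by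
  haveI := hG.finite
  refine ⟨hG.finite, ⟨hG.inj, fun P hP φ hφS => ⟨fun hφ => ?_, fun hg => ?_⟩⟩, ?_, ?_⟩
  · obtain ⟨ψ, hψ, hψe, -⟩ := h.normal.2 P φ hφ
    obtain ⟨a, ha⟩ := h.exists_aut hψ le_sup_right
    obtain ⟨g, -, hg⟩ := hG.realize _ le_sup_right ψ hψ a ha
    refine ⟨g, fun x => ?_⟩
    rw [hg ⟨x, hP x.2⟩ (Subgroup.mem_sup_left x.2)]
    exact congrArg ι (Subtype.ext (hψe x).symm)
  · obtain ⟨g, hg⟩ := hg
    have hRS : P ⊔ Q ≤ S := sup_le hP h.le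
    have hmem : ∀ r : S, (r : Ω) ∈ P ⊔ Q → g * ι r * g⁻¹ ∈ ι.range := by
      intro r hr
      have hle : P ⊔ Q ≤ (ι.range.comap ((MulAut.conj g).toMonoidHom.comp ι)).map S.subtype := by
        refine sup_le (fun x hx => ⟨⟨x, hP hx⟩, ⟨_, hg ⟨x, hx⟩⟩, rfl⟩)
          (fun x hx => ⟨⟨x, h.le hx⟩, ⟨_, (hG.conj g ⟨x, hx⟩).symm⟩, rfl⟩)
      obtain ⟨r', hr', e⟩ := hle hr
      obtain rfl : r' = r := Subtype.ext e
      exact hr'
    obtain ⟨ψ, hψ, hψQ⟩ := h.exists_ext (pr g) le_sup_right hRS (fun r hr => by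
      obtain ⟨t, ht⟩ := hmem r hr
      exact ⟨t, by rw [← hG.pr_res, ht, map_mul, map_mul, map_inv, hG.pr_res]⟩)
    obtain ⟨g', hg'p, hg'⟩ := hG.realize _ le_sup_right ψ hψ (pr g) hψQ
    obtain ⟨z, hz, hze⟩ := hG.ker (g * g'⁻¹) (by rw [map_mul, map_inv, hg'p, mul_inv_cancel])
    obtain ⟨χ, hχ, hχe⟩ := F.exists_comp (F.restrict_mem hψ (le_sup_left : P ≤ P ⊔ Q))
      (F.conj_mem (P := S) (g := (z : Ω)) le_rfl z.2) (fun x => F.apply_mem (F.restrict_mem hψ le_sup_left) x)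
    refine F.mem_of_apply_eq hχ fun x => ?_
    rw [hχe, conjHom_apply]
    have h1 : g = ι z * g' := by rw [hze, inv_mul_cancel_right]
    have h2 : ι ⟨φ x, hφS x⟩ = ι (z * ⟨ψ ⟨x, Subgroup.mem_sup_left x.2⟩, F.apply_mem hψ _⟩ * z⁻¹) := by
      rw [hg x, map_mul, map_mul, ← hg' ⟨x, hP x.2⟩ (Subgroup.mem_sup_left x.2), map_inv, h1]
      group
    exact congrArg Subtype.val (hG.inj h2)
  · exact ⟨(h.isPGroup.of_surjective ι.rangeRestrict ι.rangeRestrict_surjective).toSylow (hG.not_dvd_index h),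
      IsPGroup.toSylow_coe _ _⟩
  · let N : Subgroup G := (Q.subgroupOf S).map ι
    have hN : N.Normal := ⟨by
      rintro _ ⟨q, hq, rfl⟩ g
      exact ⟨⟨(((pr g : F.autGroup Q) : MulAut Q) ⟨q, hq⟩ : Q), h.le (SetLike.coe_mem _)⟩,
        (((pr g : F.autGroup Q) : MulAut Q) ⟨q, hq⟩).2, (hG.conj g ⟨q, hq⟩).symm⟩⟩
    have hle : N ≤ pCore p G := le_sSup ⟨hN, (h.isPGroup.to_subgroup _).map ι⟩
    refine (Subgroup.centralizer_le hle).trans (le_trans ?_ hle)
    intro g hg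
    have hp : pr g = 1 := aut_ext fun q => by
      have h1 := hG.conj g q
      rw [← Subgroup.mem_centralizer_iff.mp hg (ι ⟨q, h.le q.2⟩) ⟨_, q.2, rfl⟩, mul_inv_cancel_right] at h1
      exact (congrArg Subtype.val (hG.inj h1)).symm
    obtain ⟨z, hz, rfl⟩ := hG.ker g hp
    exact ⟨z, h.mem_of_mem_ker hz, rfl⟩

/-- `G` as an `S`-`S`-biset. -/
structure RegBiset (ι : S →* G) : Type v where
  /-- the element -/
  val : G

instance (ι : S →* G) : MulAction (S × S) (RegBiset ι) where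
  smul m x := ⟨ι m.1 * x.val * (ι m.2)⁻¹⟩
  one_smul x := by
    refine congrArg RegBiset.mk (show ι 1 * x.val * (ι 1)⁻¹ = x.val from ?_)
    rw [map_one, one_mul, inv_one, mul_one]
  mul_smul m m' x := by
    refine congrArg RegBiset.mk
      (show ι (m.1 * m'.1) * x.val * (ι (m.2 * m'.2))⁻¹ = ι m.1 * (ι m'.1 * x.val * (ι m'.2)⁻¹) * (ι m.2)⁻¹ from ?_)
    rw [map_mul, map_mul]
    group

theorem IsExt.isBiset (hG : h.IsExt G ι pr) : h.IsBiset (RegBiset ι) (fun x => pr x.val) := by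
  refine ⟨fun m x => ?_, fun a => ?_, fun t x hx => ?_, fun x y e => ?_, fun x R hQR hRS hR => ?_⟩
  · show pr (ι m.1 * x.val * (ι m.2)⁻¹) = _
    rw [map_mul, map_mul, map_inv, hG.pr_res, hG.pr_res]
  · obtain ⟨g, hg⟩ := hG.surj a
    exact ⟨⟨g⟩, hg⟩
  · replace hx : ι 1 * x.val * (ι t)⁻¹ = x.val := congrArg RegBiset.val hx
    rw [map_one, one_mul, mul_eq_left, inv_eq_one] at hx
    exact hG.inj (hx.trans (map_one ι).symm)
  · obtain ⟨z, hz, hze⟩ := hG.ker (y.val⁻¹ * x.val) (by rw [map_mul, map_inv]; exact inv_mul_eq_one.mpr e.symm)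
    refine ⟨z, hz, ?_⟩
    refine congrArg RegBiset.mk (show y.val = ι 1 * x.val * (ι z)⁻¹ from ?_)
    rw [hze, map_one]
    group
  · obtain ⟨χ, hχ, hχQ⟩ := h.exists_ext (pr x.val)⁻¹ hQR hRS (fun r hr => by rw [inv_inv]; exact hR r hr)
    -- the conjugation itself is a map of the system
    have hmem : ∀ r : S, (r : Ω) ∈ R → x.val⁻¹ * ι r * x.val ∈ ι.range := by
      intro r hr
      obtain ⟨t, ht⟩ := hR r hr
      obtain ⟨z, hz, hze⟩ := hG.ker ((ι t)⁻¹ * (x.val⁻¹ * ι r * x.val))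
        (by rw [map_mul, map_mul, map_mul, map_inv, map_inv, hG.pr_res, hG.pr_res, ht, inv_mul_cancel])
      exact ⟨t * z, by rw [map_mul, hze, mul_inv_cancel_left]⟩
    let j : R →* G := (MulAut.conj x.val⁻¹).toMonoidHom.comp (ι.comp (Subgroup.inclusion hRS))
    have hj : ∀ r, j r ∈ ι.range := fun r => by
      show x.val⁻¹ * ι ⟨(r : Ω), hRS r.2⟩ * x.val⁻¹⁻¹ ∈ ι.range
      rw [inv_inv]
      exact hmem _ r.2
    let ξ : R →* Ω :=
      S.subtype.comp ((MonoidHom.ofInjective hG.inj).symm.toMonoidHom.comp (j.codRestrict ι.range hj))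
    have hξS : ∀ r, ξ r ∈ S := fun r => SetLike.coe_mem _
    have hξe : ∀ r, ι ⟨ξ r, hξS r⟩ = x.val⁻¹ * ι ⟨(r : Ω), hRS r.2⟩ * x.val⁻¹⁻¹ := fun r =>
      congrArg Subtype.val ((MonoidHom.ofInjective hG.inj).apply_symm_apply (j.codRestrict ι.range hj r))
    have hξ : ξ ∈ F.Hom R :=
      ((hG.isModel h).2.1.2 R hRS ξ hξS).mpr ⟨x.val⁻¹, hξe⟩
    refine ⟨ξ, hξ, fun q hq hr => ?_, fun r t hr => ?_⟩
    · have h1 := (hξe ⟨q, hr⟩).trans (hG.conj x.val⁻¹ ⟨q, hq⟩)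
      rw [map_inv] at h1
      exact congrArg Subtype.val (hG.inj h1)
    · have h1 := hξe ⟨r, hr⟩
      rw [inv_inv] at h1
      constructor
      · intro hfix
        replace hfix : ι r * x.val * (ι t)⁻¹ = x.val := congrArg RegBiset.val hfix
        refine congrArg Subtype.val (hG.inj (h1.trans ?_) : (⟨ξ ⟨r, hr⟩, hξS _⟩ : S) = t)
        rw [mul_inv_eq_iff_eq_mul] at hfix
        show x.val⁻¹ * ι r * x.val = ι t
        rw [mul_assoc, hfix, inv_mul_cancel_left]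
      · intro ht
        rw [show (⟨ξ ⟨r, hr⟩, hξS _⟩ : S) = t from Subtype.ext ht] at h1
        refine congrArg RegBiset.mk (show ι r * x.val * (ι t)⁻¹ = x.val from ?_)
        rw [h1]
        show ι r * x.val * (x.val⁻¹ * ι r * x.val)⁻¹ = x.val
        group

/-- A model is an extension, once `Q` is normal in it. -/
theorem exists_isExt_of_isModel (hG : F.IsModel p G ι) (hN : ((Q.subgroupOf S).map ι).Normal)
    (hC : ∀ g : G, (∀ q : S, (q : Ω) ∈ Q → g * ι q * g⁻¹ = ι q) → g ∈ ι.range) :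
    ∃ pr : G →* F.autGroup Q, h.IsExt G ι pr := by
  obtain ⟨hfin, ⟨hinj, hiff⟩, -, -⟩ := hG
  have key : ∀ g : G, ∃ a : F.autGroup Q, ∀ q : Q,
      g * ι ⟨q, h.le q.2⟩ * g⁻¹ = ι ⟨((a : MulAut Q) q : Q), h.le (SetLike.coe_mem _)⟩ := by
    intro g
    let j : Q →* G := (MulAut.conj g).toMonoidHom.comp (ι.comp (Subgroup.inclusion h.le))
    have hj : ∀ q, j q ∈ (Q.subgroupOf S).map ι := fun q => hN.conj_mem _ ⟨⟨q, h.le q.2⟩, q.2, rfl⟩ g
    have hj' : ∀ q, j q ∈ ι.range := fun q => by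
      obtain ⟨w, -, hw⟩ := hj q
      exact ⟨w, hw⟩
    let φ : Q →* Ω :=
      S.subtype.comp ((MonoidHom.ofInjective hinj).symm.toMonoidHom.comp (j.codRestrict ι.range hj'))
    have hφS : ∀ r, φ r ∈ S := fun r => SetLike.coe_mem _
    have hφe : ∀ r, ι ⟨φ r, hφS r⟩ = g * ι ⟨(r : Ω), h.le r.2⟩ * g⁻¹ := fun r =>
      congrArg Subtype.val ((MonoidHom.ofInjective hinj).apply_symm_apply (j.codRestrict ι.range hj' r))
    have hφ : φ ∈ F.Hom Q := (hiff Q h.le φ hφS).mpr ⟨g, hφe⟩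
    obtain ⟨a, ha⟩ := h.exists_aut hφ le_rfl
    exact ⟨a, fun q => (hφe q).symm.trans (congrArg ι (Subtype.ext (ha q q.2)))⟩
  choose a ha using key
  have huniq : ∀ (g : G) (b : F.autGroup Q), (∀ q : Q,
      g * ι ⟨q, h.le q.2⟩ * g⁻¹ = ι ⟨((b : MulAut Q) q : Q), h.le (SetLike.coe_mem _)⟩) → a g = b :=
    fun g b hb => aut_ext fun q => congrArg (fun w : S => (w : Ω)) (hinj ((ha g q).symm.trans (hb q)))
  let pr : G →* F.autGroup Q :=
    { toFun := a
      map_one' := huniq 1 1 fun q => by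
        rw [one_mul, inv_one, mul_one]
        rfl
      map_mul' := fun g g' => huniq _ _ fun q => by
        have h1 := ha g' q
        have h2 := ha g (((a g' : F.autGroup Q) : MulAut Q) q)
        calc g * g' * ι ⟨q, h.le q.2⟩ * (g * g')⁻¹ = g * (g' * ι ⟨q, h.le q.2⟩ * g'⁻¹) * g⁻¹ := by group
          _ = _ := by rw [h1, h2]; rfl }
  refine ⟨pr, hfin, hinj, fun s => huniq _ _ fun q => ?_, fun b => ?_, fun g hg => ?_, ha, ?_⟩
  · rw [← map_inv, ← map_mul, ← map_mul]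
    exact congrArg ι (Subtype.ext (h.res_apply s q).symm)
  · obtain ⟨φ, hφ, -, hφe⟩ := F.exists_map_of_mem_autGroup h.le b.2
    obtain ⟨g, hg⟩ := (hiff Q h.le φ (F.apply_mem hφ)).mp hφ
    exact ⟨g, huniq g b fun q => (hg q).symm.trans (congrArg ι (Subtype.ext (hφe q)))⟩
  · have hfix : ∀ q : S, (q : Ω) ∈ Q → g * ι q * g⁻¹ = ι q := fun q hq => by
      have h1 := ha g ⟨q, hq⟩
      change a g = 1 at hg
      rw [hg] at h1
      exact h1
    obtain ⟨z, rfl⟩ := hC g hfix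
    refine ⟨z, h.res_eq_one_iff.mpr (Subgroup.mem_centralizer_iff.mpr fun q hq => ?_), rfl⟩
    have h1 := hfix ⟨q, h.le hq⟩ hq
    rw [← map_inv, ← map_mul, ← map_mul] at h1
    have h2 : (z : Ω) * q * (z : Ω)⁻¹ = q := congrArg Subtype.val (hinj h1)
    calc q * (z : Ω) = (z : Ω) * q * (z : Ω)⁻¹ * z := by rw [h2]
      _ = z * q := by group
  · intro R hQR ψ hψ b hb
    obtain ⟨g, hg⟩ := (hiff R (F.source_le hψ) ψ (F.apply_mem hψ)).mp hψ
    refine ⟨g, huniq g b fun q => ?_, fun r hr => (hg ⟨r, hr⟩).symm⟩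
    exact (hg ⟨q, hQR q.2⟩).symm.trans (congrArg ι (Subtype.ext (hb q q.2)))

end Cfsg.FusionSystem.ModelSetup
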