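import Cfsg.Agent.Lib.Fusion.Model.Ext
import Mathlib.Algebra.BigOperators.Finprod

/-!
The group attached to a biset: transfer of the permutation extension to `Z(Q)`.
-/

set_option autoImplicit false
set_option linter.unusedSectionVars false

universe u v w

namespace Cfsg.FusionSystem.ModelSetup

variable {Ω : Type u} [Group Ω] {S : Subgroup Ω} {F : FusionSystem S} {p : ℕ} {Q : Subgroup Ω}
variable [Finite S] [Fact p.Prime] (h : ModelSetup F p Q)

noncomputable instance kerCommGroup : CommGroup h.res.ker :=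
  { (inferInstance : Group h.res.ker) with mul_comm := h.ker_comm }

/-- The cosets of `Aut_S(Q)`. -/
abbrev Cosets : Type u := F.autGroup Q ⧸ h.res.range

theorem finite_cosets : Finite h.Cosets := by
  haveI := h.finite_aut
  infer_instance

theorem coprime_cosets : (Nat.card h.res.ker).Coprime (Nat.card h.Cosets) := by
  obtain ⟨n, hn⟩ := IsPGroup.iff_card.mp (h.isPGroup.to_subgroup h.res.ker)
  rw [hn]
  exact Nat.Coprime.pow_left _ ((Fact.out : p.Prime).coprime_iff_not_dvd.mpr h.not_dvd_index)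

/-- Division by the number of cosets in `Z(Q)`. -/
noncomputable def root : h.res.ker ≃* h.res.ker :=
  (MulEquiv.ofBijective (powMonoidHom (α := h.res.ker) (Nat.card h.Cosets))
    (powCoprime h.coprime_cosets).bijective).symm

theorem root_pow (z : h.res.ker) : h.root (z ^ Nat.card h.Cosets) = z :=
  MulEquiv.symm_apply_apply _ z

theorem root_act (a : F.autGroup Q) (z : h.res.ker) : h.root (h.act a z) = h.act a (h.root z) := by
  obtain ⟨w, rfl⟩ := (MulEquiv.ofBijective (powMonoidHom (α := h.res.ker) (Nat.card h.Cosets))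
    (powCoprime h.coprime_cosets).bijective).surjective z
  show h.root (h.act a (w ^ _)) = h.act a (h.root (w ^ _))
  rw [map_pow, h.root_pow, h.root_pow]

variable {X : Type v} [MulAction (S × S) X] {π : X → F.autGroup Q} (hX : h.IsBiset X π)

include hX in
theorem inl_eq_inr {x : X} (z : h.res.ker) (w : S)
    (hw : (w : Ω) = ((((π x)⁻¹ : F.autGroup Q) : MulAut Q) ⟨((z : S) : Ω), h.mem_of_mem_ker z.2⟩ : Q)) :
    (((z : S), 1) : S × S) • x = ((1, w⁻¹) : S × S) • x := by
  have h1 := hX.smul_left_Q h x ⟨((z : S) : Ω), h.mem_of_mem_ker z.2⟩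
  have e : (((z : S), w) : S × S) • x = x := by
    convert h1 using 2
    exact Prod.ext rfl (Subtype.ext hw)
  calc (((z : S), 1) : S × S) • x = (((z : S), 1) : S × S) • ((z : S), w)⁻¹ • (((z : S), w) : S × S) • x := by
        rw [inv_smul_smul]
    _ = ((1, w⁻¹) : S × S) • x := by rw [e, ← mul_smul]; simp

/-- Permutations of the biset commuting with the right action, with an element of `Aut_F(Q)` below. -/
def cover (_hX : h.IsBiset X π) : Subgroup (Equiv.Perm X × F.autGroup Q) where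
  carrier := {g | (∀ (t : S) (x : X), g.1 (((1, t) : S × S) • x) = ((1, t) : S × S) • g.1 x) ∧
    ∀ x, π (g.1 x) = g.2 * π x}
  one_mem' := ⟨fun t x => rfl, fun x => (one_mul _).symm⟩
  mul_mem' := by
    rintro g g' ⟨h1, h2⟩ ⟨h1', h2'⟩
    refine ⟨fun t x => ?_, fun x => ?_⟩
    · show g.1 (g'.1 _) = _ • g.1 (g'.1 x)
      rw [h1', h1]
    · show π (g.1 (g'.1 x)) = g.2 * g'.2 * π x
      rw [h2, h2', mul_assoc]
  inv_mem' := by
    rintro g ⟨h1, h2⟩
    refine ⟨fun t x => g.1.injective ?_, fun x => ?_⟩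
    · show g.1 (g.1.symm _) = g.1 (_ • g.1.symm x)
      rw [h1, Equiv.apply_symm_apply, Equiv.apply_symm_apply]
    · show π (g.1.symm x) = g.2⁻¹ * π x
      rw [eq_inv_mul_iff_mul_eq, ← h2, Equiv.apply_symm_apply]

/-- Left multiplication. -/
def left : S →* h.cover hX where
  toFun s := ⟨(MulAction.toPerm ((s, 1) : S × S), h.res s), fun t x => by
      show ((s, 1) : S × S) • ((1, t) : S × S) • x = ((1, t) : S × S) • ((s, 1) : S × S) • x
      rw [← mul_smul, ← mul_smul]
      simp, fun x => by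
      show π (((s, 1) : S × S) • x) = _
      rw [hX.smul_eq]
      simp⟩
  map_one' := Subtype.ext (Prod.ext (Equiv.ext fun x => one_smul (S × S) x) (map_one _))
  map_mul' s s' := Subtype.ext (Prod.ext (Equiv.ext fun x => by
      show ((s * s', 1) : S × S) • x = ((s, 1) : S × S) • ((s', 1) : S × S) • x
      rw [← mul_smul]
      simp) (map_mul _ _ _))

/-- The projection. -/
def coverPr : h.cover hX →* F.autGroup Q :=
  (MonoidHom.snd (Equiv.Perm X) (F.autGroup Q)).comp (h.cover hX).subtype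

theorem kernel_eq (k : (h.coverPr hX).ker) (x : X) : π x = π (((k : h.cover hX) : Equiv.Perm X × F.autGroup Q).1 x) := by
  rw [(k : h.cover hX).2.2, show ((k : h.cover hX) : Equiv.Perm X × F.autGroup Q).2 = 1 from k.2, one_mul]

/-- The value of a kernel element at a point. -/
noncomputable def val (k : (h.coverPr hX).ker) (x : X) : h.res.ker :=
  h.act (π x) (⟨(hX.fibre _ _ (h.kernel_eq hX k x)).choose,
    (hX.fibre _ _ (h.kernel_eq hX k x)).choose_spec.1⟩)⁻¹

theorem val_spec (k : (h.coverPr hX).ker) (x : X) (z : h.res.ker)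
    (hz : ((k : h.cover hX) : Equiv.Perm X × F.autGroup Q).1 x = ((1, (z : S)⁻¹) : S × S) • x) :
    h.val hX k x = h.act (π x) z := by
  have h1 := (hX.fibre _ _ (h.kernel_eq hX k x)).choose_spec
  have h2 : (hX.fibre _ _ (h.kernel_eq hX k x)).choose = (z : S)⁻¹ := by
    have h3 := h1.2.symm.trans hz
    have h4 := hX.free ((z : S) * (hX.fibre _ _ (h.kernel_eq hX k x)).choose) x (by
      rw [show ((1, (z : S) * (hX.fibre _ _ (h.kernel_eq hX k x)).choose) : S × S) =
        ((1, (z : S)) : S × S) * (1, (hX.fibre _ _ (h.kernel_eq hX k x)).choose) by simp,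
        mul_smul, h3, ← mul_smul]
      simp [← Prod.one_eq_mk])
    exact eq_inv_of_mul_eq_one_right h4
  unfold val
  congr 1
  apply Subtype.ext
  show ((hX.fibre _ _ (h.kernel_eq hX k x)).choose)⁻¹ = (z : S)
  rw [h2, inv_inv]

theorem exists_val (k : (h.coverPr hX).ker) (x : X) :
    ∃ z : h.res.ker, ((k : h.cover hX) : Equiv.Perm X × F.autGroup Q).1 x = ((1, (z : S)⁻¹) : S × S) • x := by
  obtain ⟨w, hw, e⟩ := hX.fibre _ _ (h.kernel_eq hX k x)
  exact ⟨⟨w⁻¹, Subgroup.inv_mem _ hw⟩, by simpa using e⟩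

theorem val_mul (k k' : (h.coverPr hX).ker) (x : X) : h.val hX (k * k') x = h.val hX k x * h.val hX k' x := by
  obtain ⟨z, hz⟩ := h.exists_val hX k x
  obtain ⟨z', hz'⟩ := h.exists_val hX k' x
  rw [h.val_spec hX k x z hz, h.val_spec hX k' x z' hz', ← map_mul]
  refine h.val_spec hX _ x _ ?_
  show ((k : h.cover hX) : Equiv.Perm X × F.autGroup Q).1 (((k' : h.cover hX) : Equiv.Perm X × F.autGroup Q).1 x) = _
  rw [hz', (k : h.cover hX).2.1, hz, ← mul_smul]
  congr 1
  simp

theorem val_right (k : (h.coverPr hX).ker) (x : X) (t : S) :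
    h.val hX k (((1, t) : S × S) • x) = h.val hX k x := by
  obtain ⟨z, hz⟩ := h.exists_val hX k x
  rw [h.val_spec hX k x z hz]
  have hπ : π (((1, t) : S × S) • x) = π x * (h.res t)⁻¹ := by rw [hX.smul_eq]; simp
  rw [h.val_spec hX k _ (h.act (h.res t) z) ?_, ← h.act_mul, hπ, inv_mul_cancel_right]
  rw [(k : h.cover hX).2.1, hz, ← mul_smul, ← mul_smul]
  congr 1
  refine Prod.ext (by simp) ?_
  show t * (z : S)⁻¹ = ((h.act (h.res t) z : h.res.ker) : S)⁻¹ * t
  rw [h.act_res]
  simp [mul_assoc]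

theorem val_congr (k : (h.coverPr hX).ker) {x y : X}
    (e : ((π x : F.autGroup Q) : h.Cosets) = (π y : F.autGroup Q)) : h.val hX k x = h.val hX k y := by
  obtain ⟨t, ht⟩ := QuotientGroup.eq.mp e
  obtain ⟨z, -, rfl⟩ := hX.fibre (((1, t⁻¹) : S × S) • x) y (by
    rw [hX.smul_eq, map_inv, inv_inv, map_one, one_mul, ht, mul_inv_cancel_left])
  rw [h.val_right, h.val_right]

/-- A point above each coset. -/
noncomputable def point (c : h.Cosets) : X := (hX.surj c.out).choose

theorem point_spec (c : h.Cosets) : ((π (h.point hX c) : F.autGroup Q) : h.Cosets) = c := by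
  rw [show π (h.point hX c) = c.out from (hX.surj c.out).choose_spec, QuotientGroup.out_eq']

/-- The transfer to `Z(Q)`. -/
noncomputable def transferHom : (h.coverPr hX).ker →* h.res.ker :=
  haveI := h.finite_cosets
  { toFun := fun k => h.root (∏ᶠ c : h.Cosets, h.val hX k (h.point hX c))
    map_one' := by
      rw [finprod_eq_one_of_forall_eq_one, map_one]
      intro c
      rw [h.val_spec hX 1 _ 1 (by simp [← Prod.one_eq_mk]), map_one]
    map_mul' := fun k k' => by
      rw [← map_mul, ← finprod_mul_distrib (Set.toFinite _) (Set.toFinite _)]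
      congr 1
      exact finprod_congr fun c => h.val_mul hX k k' _ }

theorem transferHom_conj (g : h.cover hX) (k : (h.coverPr hX).ker) :
    h.transferHom hX ⟨g * k * g⁻¹, (h.coverPr hX).normal_ker.conj_mem _ k.2 g⟩ =
      h.act (h.coverPr hX g) (h.transferHom hX k) := by
  haveI := h.finite_cosets
  show h.root _ = h.act _ (h.root _)
  rw [← h.root_act]
  congr 1
  rw [MonoidHom.map_finprod _ (Set.toFinite _)]
  set a := h.coverPr hX g
  have key : ∀ x : X, h.val hX ⟨g * k * g⁻¹, (h.coverPr hX).normal_ker.conj_mem _ k.2 g⟩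
      ((g : Equiv.Perm X × F.autGroup Q).1 x) = h.act a (h.val hX k x) := by
    intro x
    obtain ⟨z, hz⟩ := h.exists_val hX k x
    rw [h.val_spec hX k x z hz, ← h.act_mul,
      h.val_spec hX _ _ z ?_, show π ((g : Equiv.Perm X × F.autGroup Q).1 x) = a * π x from g.2.2 x]
    show (g : Equiv.Perm X × F.autGroup Q).1 (((k : h.cover hX) : Equiv.Perm X × F.autGroup Q).1
      ((g : Equiv.Perm X × F.autGroup Q).1.symm ((g : Equiv.Perm X × F.autGroup Q).1 x))) = _
    rw [Equiv.symm_apply_apply, hz, g.2.1]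
  refine Eq.trans ?_ (finprod_comp_equiv (MulAction.toPerm (a⁻¹ : F.autGroup Q) : h.Cosets ≃ h.Cosets)
    (f := fun c => h.act a (h.val hX k (h.point hX c))))
  refine finprod_congr fun c => ?_
  obtain ⟨x, hx⟩ : ∃ x, (g : Equiv.Perm X × F.autGroup Q).1 x = h.point hX c := (g : Equiv.Perm X × F.autGroup Q).1.surjective _
  rw [← hx, key]
  congr 1
  refine h.val_congr hX k ?_
  show _ = ((π (h.point hX (a⁻¹ • c)) : F.autGroup Q) : h.Cosets)
  rw [h.point_spec, ← h.point_spec hX c, ← hx, show π ((g : Equiv.Perm X × F.autGroup Q).1 x) = a * π x from g.2.2 x]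
  show _ = ((a⁻¹ * (a * π x) : F.autGroup Q) : h.Cosets)
  rw [inv_mul_cancel_left]

theorem transferHom_left (z : h.res.ker) :
    h.transferHom hX ⟨h.left hX z, z.2⟩ = z := by
  haveI := h.finite_cosets
  show h.root _ = z
  conv_rhs => rw [← h.root_pow z]
  congr 1
  rw [finprod_congr (g := fun _ => z) fun c => ?_]
  · haveI := Fintype.ofFinite h.Cosets
    rw [finprod_eq_prod_of_fintype, Finset.prod_const, Finset.card_univ, Nat.card_eq_fintype_card]
  · rw [h.val_spec hX _ (h.point hX c) (h.act (π (h.point hX c))⁻¹ z), ← h.act_mul, mul_inv_cancel, h.act_one]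
    exact h.inl_eq_inr hX z _ (h.act_apply _ z)

/-- The relations. -/
noncomputable def relations : Subgroup (h.cover hX) :=
  (h.transferHom hX).ker.map (h.coverPr hX).ker.subtype

instance relations_normal : (h.relations hX).Normal :=
  ⟨by
    rintro _ ⟨k, hk, rfl⟩ g
    refine ⟨⟨g * k * g⁻¹, (h.coverPr hX).normal_ker.conj_mem _ k.2 g⟩, ?_, rfl⟩
    rw [SetLike.mem_coe, MonoidHom.mem_ker, h.transferHom_conj, MonoidHom.mem_ker.mp hk, map_one]⟩

/-- The group of a biset. -/
abbrev Ext : Type (max u v) := h.cover hX ⧸ h.relations hX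

/-- The embedding of `S`. -/
noncomputable def extι : S →* h.Ext hX := (QuotientGroup.mk' _).comp (h.left hX)

/-- The projection of the group of a biset. -/
noncomputable def extPr : h.Ext hX →* F.autGroup Q :=
  QuotientGroup.lift _ (h.coverPr hX) fun _ ⟨k, _, e⟩ => e ▸ k.2

include hX in
theorem isExt_ext [Finite X] : h.IsExt (h.Ext hX) (h.extι hX) (h.extPr hX) := by
  haveI := h.finite_aut
  refine ⟨inferInstance, (injective_iff_map_eq_one _).mpr fun s hs => ?_, fun s => rfl, fun a => ?_,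
    fun g hg => ?_, fun g q => ?_, fun R hQR ψ hψ a ha => ?_⟩
  · obtain ⟨k, hk, he⟩ := (QuotientGroup.eq_one_iff _).mp hs
    have h1 : h.res s = 1 := by
      have := k.2
      rw [show (k : h.cover hX) = h.left hX s from he] at this
      exact this
    have h2 : h.transferHom hX ⟨h.left hX s, h1⟩ = 1 := by
      convert MonoidHom.mem_ker.mp hk using 2
      exact Subtype.ext he.symm
    rw [h.transferHom_left hX ⟨s, h1⟩] at h2
    exact congrArg Subtype.val h2
  · obtain ⟨φ, hφ, -, hφe⟩ := F.exists_map_of_mem_autGroup h.le a.2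
    obtain ⟨θ, hθπ, hθ⟩ := h.exists_twist hX hX le_rfl hφ a (fun q hq => hφe ⟨q, hq⟩)
    refine ⟨QuotientGroup.mk' _ (⟨(θ, a), fun t x => ?_, hθπ⟩ : h.cover hX), rfl⟩
    show θ _ = _ • θ x
    rw [hθ 1 t (Subgroup.one_mem _) x]
    congr 1
    refine Prod.ext (Subtype.ext ?_) rfl
    show φ ⟨((1 : S) : Ω), _⟩ = 1
    exact map_one φ
  · obtain ⟨k, rfl⟩ := QuotientGroup.mk'_surjective _ g
    refine ⟨h.transferHom hX ⟨k, hg⟩, SetLike.coe_mem _, QuotientGroup.eq.mpr ?_⟩
    refine ⟨(⟨h.left hX (h.transferHom hX ⟨k, hg⟩ : h.res.ker), (h.transferHom hX ⟨k, hg⟩).2⟩)⁻¹ * ⟨k, hg⟩, ?_, rfl⟩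
    rw [SetLike.mem_coe, MonoidHom.mem_ker, map_mul, map_inv, h.transferHom_left, inv_mul_cancel]
  · obtain ⟨k, rfl⟩ := QuotientGroup.mk'_surjective _ g
    show QuotientGroup.mk' (h.relations hX) k * QuotientGroup.mk' (h.relations hX) _ * (QuotientGroup.mk' (h.relations hX) k)⁻¹ =
      QuotientGroup.mk' (h.relations hX) _
    rw [← map_inv, ← map_mul, ← map_mul]
    congr 1
    refine Subtype.ext (Prod.ext (Equiv.ext fun y => ?_) ?_)
    · obtain ⟨x, rfl⟩ := (k : Equiv.Perm X × F.autGroup Q).1.surjective y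
      show (k : Equiv.Perm X × F.autGroup Q).1 (((⟨(q : Ω), _⟩ : S), (1 : S)) •
        (k : Equiv.Perm X × F.autGroup Q).1.symm ((k : Equiv.Perm X × F.autGroup Q).1 x)) =
          ((⟨((((k : Equiv.Perm X × F.autGroup Q).2 : MulAut Q) q : Q) : Ω), _⟩ : S), (1 : S)) • (k : Equiv.Perm X × F.autGroup Q).1 x
      rw [Equiv.symm_apply_apply]
      let w : S := ⟨((((π x)⁻¹ : F.autGroup Q) : MulAut Q) q : Q), h.le (SetLike.coe_mem _)⟩
      have e1 := hX.smul_left_Q h x q
      have e2 := hX.smul_left_Q h ((k : Equiv.Perm X × F.autGroup Q).1 x) (((k : Equiv.Perm X × F.autGroup Q).2 : MulAut Q) q)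
      have e3 : ((((π ((k : Equiv.Perm X × F.autGroup Q).1 x))⁻¹ : F.autGroup Q) : MulAut Q)
          (((k : Equiv.Perm X × F.autGroup Q).2 : MulAut Q) q)) = (((π x)⁻¹ : F.autGroup Q) : MulAut Q) q := by
        rw [k.2.2, mul_inv_rev]
        show (((π x)⁻¹ : F.autGroup Q) : MulAut Q) (((k : Equiv.Perm X × F.autGroup Q).2⁻¹ : MulAut Q) _) = _
        congr 1
        exact (((k : Equiv.Perm X × F.autGroup Q).2 : MulAut Q)).symm_apply_apply q
      have split : ∀ (u t : S) (z : X), ((u, t) : S × S) • z = z →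
          ((u, (1 : S)) : S × S) • z = ((1, t⁻¹) : S × S) • z := fun u t z hz => by
        conv_rhs => rw [← hz]
        rw [← mul_smul]
        simp
      rw [split _ _ _ e1, k.2.1, split _ _ _ e2]
      congr 4
      exact congrArg Subtype.val e3.symm
    · show (k : Equiv.Perm X × F.autGroup Q).2 * h.res _ * ((k : Equiv.Perm X × F.autGroup Q).2)⁻¹ = h.res _
      rw [← h.res_aut (k : Equiv.Perm X × F.autGroup Q).2 (q := ⟨q, h.le q.2⟩) q.2]
      rfl
  · obtain ⟨θ, hθπ, hθ⟩ := h.exists_twist hX hX hQR hψ a ha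
    have hmem : (θ, a) ∈ h.cover hX := ⟨fun t x => by
      show θ _ = _ • θ x
      rw [hθ 1 t (Subgroup.one_mem _) x]
      congr 1
      exact Prod.ext (Subtype.ext (map_one ψ)) rfl, hθπ⟩
    refine ⟨QuotientGroup.mk' _ ⟨_, hmem⟩, rfl, fun r hr => ?_⟩
    show QuotientGroup.mk' (h.relations hX) _ * QuotientGroup.mk' (h.relations hX) _ * (QuotientGroup.mk' (h.relations hX) _)⁻¹ =
      QuotientGroup.mk' (h.relations hX) _
    rw [← map_inv, ← map_mul, ← map_mul]
    congr 1
    refine Subtype.ext (Prod.ext (Equiv.ext fun y => ?_) ?_)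
    · obtain ⟨x, rfl⟩ := θ.surjective y
      show θ (((r, 1) : S × S) • θ.symm (θ x)) = ((⟨ψ ⟨r, hr⟩, F.apply_mem hψ _⟩, 1) : S × S) • θ x
      rw [Equiv.symm_apply_apply, hθ r 1 hr x]
    · show a * h.res r * a⁻¹ = h.res _
      exact (h.res_map hψ hQR a ha r hr).symm

include hX in
theorem exists_equiv_ext [Finite X] {G : Type w} [Group G] {ι : S →* G} {pr : G →* F.autGroup Q}
    (hG : h.IsExt G ι pr) : ∃ Φ : G ≃* h.Ext hX, ∀ s, Φ (ι s) = h.extι hX s := by
  haveI := hG.finite
  obtain ⟨θ, hθπ, hθ⟩ := h.exists_twist (hG.isBiset h) hX h.le (F.id_mem le_rfl) 1 (fun q hq => rfl)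
  have hθ' : ∀ (r t : S) (x : RegBiset ι), θ ((r, t) • x) = ((r, t) : S × S) • θ x := fun r t x => hθ r t r.2 x
  have hθπ' : ∀ x, π (θ x) = pr x.val := fun x => (hθπ x).trans (one_mul _)
  let mulL : G → Equiv.Perm X := fun g => θ.symm.trans
    ((⟨fun x => ⟨g * x.val⟩, fun x => ⟨g⁻¹ * x.val⟩, fun x => by simp, fun x => by simp⟩ :
      RegBiset ι ≃ RegBiset ι).trans θ)
  have hval : ∀ g x, mulL g (θ x) = θ ⟨g * x.val⟩ := fun g x => by simp [mulL]
  have hcov : ∀ g, (mulL g, pr g) ∈ h.cover hX := fun g => by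
    refine ⟨fun t y => ?_, fun y => ?_⟩ <;> obtain ⟨x, rfl⟩ := θ.surjective y <;> dsimp only
    · rw [← hθ', hval, hval, ← hθ']
      congr 1
      exact congrArg RegBiset.mk (show g * (ι 1 * x.val * (ι t)⁻¹) = ι 1 * (g * x.val) * (ι t)⁻¹ by
        rw [map_one]; group)
    · rw [hval, hθπ', hθπ', map_mul]
  let Φ₀ : G →* h.Ext hX := (QuotientGroup.mk' _).comp
    { toFun := fun g => (⟨_, hcov g⟩ : h.cover hX)
      map_one' := Subtype.ext (Prod.ext (Equiv.ext fun y => by
        obtain ⟨x, rfl⟩ := θ.surjective y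
        exact (hval 1 x).trans (congrArg θ (congrArg RegBiset.mk (one_mul _)))) (map_one _))
      map_mul' := fun g g' => Subtype.ext (Prod.ext (Equiv.ext fun y => by
        obtain ⟨x, rfl⟩ := θ.surjective y
        show mulL (g * g') (θ x) = mulL g (mulL g' (θ x))
        rw [hval, hval, hval, mul_assoc]) (map_mul _ _ _)) }
  have hι : ∀ s, Φ₀ (ι s) = h.extι hX s := fun s => by
    refine congrArg (QuotientGroup.mk' _) (Subtype.ext (Prod.ext (Equiv.ext fun y => ?_) (hG.pr_res s)))
    obtain ⟨x, rfl⟩ := θ.surjective y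
    show mulL (ι s) (θ x) = ((s, 1) : S × S) • θ x
    rw [hval, ← hθ']
    exact congrArg θ (congrArg RegBiset.mk (show ι s * x.val = ι s * x.val * (ι 1)⁻¹ by
      rw [map_one, inv_one, mul_one]))
  have hinj : Function.Injective Φ₀ := (injective_iff_map_eq_one _).mpr fun g hg => by
    have h1 : pr g = 1 := (show pr g = h.extPr hX (Φ₀ g) from rfl).trans (by rw [hg, map_one])
    obtain ⟨z, -, rfl⟩ := hG.ker g h1
    rw [hι, ← map_one (h.extι hX)] at hg
    rw [(h.isExt_ext hX).inj hg, map_one]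
  haveI := (h.isExt_ext hX).finite
  haveI := Fintype.ofFinite G
  haveI := Fintype.ofFinite (h.Ext hX)
  have hbij : Function.Bijective Φ₀ := (Fintype.bijective_iff_injective_and_card _).mpr ⟨hinj, by
    rw [← Nat.card_eq_fintype_card, ← Nat.card_eq_fintype_card, hG.card, (h.isExt_ext hX).card]⟩
  exact ⟨MulEquiv.ofBijective Φ₀ hbij, hι⟩

end Cfsg.FusionSystem.ModelSetup
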