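import Cfsg.Agent.Lib.Fusion.Centric
import Cfsg.Agent.Lib.Fusion.Series
import Cfsg.Agent.Lib.Fusion.Center

/-!
The data attached to a centric normal subgroup `Q` of a saturated fusion system, used to build models.
-/

set_option autoImplicit false
set_option linter.unusedSectionVars false

universe u

namespace Cfsg.FusionSystem

/-- A centric normal subgroup of a saturated system over a `p`-group. -/
structure ModelSetup {Ω : Type u} [Group Ω] {S : Subgroup Ω} (F : FusionSystem S) (p : ℕ) (Q : Subgroup Ω) : Prop where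
  isPGroup : IsPGroup p S
  saturated : F.IsSaturated p
  normal : F.IsNormal Q
  centric : F.IsCentric Q

namespace ModelSetup

variable {Ω : Type u} [Group Ω] {S : Subgroup Ω} {F : FusionSystem S} {p : ℕ} {Q : Subgroup Ω}
variable [Finite S] [Fact p.Prime] (h : ModelSetup F p Q)

include h

theorem le : Q ≤ S := h.normal.1

theorem finite : Finite Q := finite_of_le h.le

theorem finite_aut : Finite (F.autGroup Q) := finite_autGroup h.le

/-- Conjugation by an element of `S` on `Q`. -/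
def res : S →* F.autGroup Q :=
  (Q.normalizerMonoidHom.comp (Subgroup.inclusion h.normal.le_normalizer)).codRestrict _ fun s =>
    F.mem_autGroup_of_map (F.conj_mem h.le s.2) fun _ => rfl

theorem res_apply (s : S) (q : Q) :
    (((h.res s : F.autGroup Q) : MulAut Q) q : Ω) = (s : Ω) * q * (s : Ω)⁻¹ := rfl

omit [Finite S] [Fact p.Prime] h in
theorem aut_ext {a b : F.autGroup Q} (e : ∀ q : Q, (((a : MulAut Q) q : Q) : Ω) = ((b : MulAut Q) q : Q)) :
    a = b :=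
  Subtype.ext (MulEquiv.ext fun q => Subtype.ext (e q))

theorem res_eq_one_iff {s : S} : h.res s = 1 ↔ (s : Ω) ∈ Subgroup.centralizer (Q : Set Ω) := by
  refine ⟨fun hs => Subgroup.mem_centralizer_iff.mpr fun q hq => ?_, fun hs => aut_ext fun q => ?_⟩
  · have h1 := h.res_apply s ⟨q, hq⟩
    rw [hs] at h1
    have h2 : q = (s : Ω) * q * (s : Ω)⁻¹ := h1
    calc q * (s : Ω) = (s : Ω) * q * (s : Ω)⁻¹ * s := by rw [← h2]
      _ = s * q := by group
  · rw [h.res_apply]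
    show _ = (q : Ω)
    rw [← Subgroup.mem_centralizer_iff.mp hs q q.2, mul_inv_cancel_right]

theorem mem_of_mem_ker {s : S} (hs : s ∈ h.res.ker) : (s : Ω) ∈ Q :=
  h.centric.centralizerIn_le_self ⟨s.2, h.res_eq_one_iff.mp hs⟩

theorem mem_ker_iff {s : S} :
    s ∈ h.res.ker ↔ (s : Ω) ∈ Q ∧ (s : Ω) ∈ Subgroup.centralizer (Q : Set Ω) :=
  ⟨fun hs => ⟨h.mem_of_mem_ker hs, h.res_eq_one_iff.mp hs⟩, fun hs => h.res_eq_one_iff.mpr hs.2⟩

theorem ker_comm (z w : h.res.ker) : z * w = w * z :=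
  Subtype.ext (Subtype.ext (Subgroup.mem_centralizer_iff.mp (h.mem_ker_iff.mp w.2).2 _
    (h.mem_of_mem_ker z.2)))

theorem act_mem (a : F.autGroup Q) (z : h.res.ker) :
    (⟨(((a : MulAut Q) ⟨((z : S) : Ω), h.mem_of_mem_ker z.2⟩ : Q) : Ω),
      h.le (SetLike.coe_mem _)⟩ : S) ∈ h.res.ker := by
  refine h.mem_ker_iff.mpr ⟨SetLike.coe_mem _, Subgroup.mem_centralizer_iff.mpr fun q hq => ?_⟩
  obtain ⟨q', hq'⟩ := (a : MulAut Q).surjective ⟨q, hq⟩
  have h1 : q' * ⟨((z : S) : Ω), h.mem_of_mem_ker z.2⟩ = ⟨((z : S) : Ω), h.mem_of_mem_ker z.2⟩ * q' :=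
    Subtype.ext (Subgroup.mem_centralizer_iff.mp (h.mem_ker_iff.mp z.2).2 q' q'.2)
  have h2 := congrArg (a : MulAut Q) h1
  rw [map_mul, map_mul, hq'] at h2
  exact congrArg Subtype.val h2

/-- The action of `Aut_F(Q)` on `Z(Q)`. -/
def act (a : F.autGroup Q) : h.res.ker →* h.res.ker where
  toFun z := ⟨_, h.act_mem a z⟩
  map_one' := by
    apply Subtype.ext
    apply Subtype.ext
    show (((a : MulAut Q) ⟨((1 : S) : Ω), _⟩ : Q) : Ω) = 1
    rw [show (⟨((1 : S) : Ω), _⟩ : Q) = 1 from rfl, map_one]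
    rfl
  map_mul' z w := by
    apply Subtype.ext
    apply Subtype.ext
    show (((a : MulAut Q) ⟨_, _⟩ : Q) : Ω) = ((a : MulAut Q) _ : Ω) * ((a : MulAut Q) _ : Q)
    rw [← Subgroup.coe_mul, ← map_mul]
    rfl

theorem act_apply (a : F.autGroup Q) (z : h.res.ker) :
    ((h.act a z : S) : Ω) = ((a : MulAut Q) ⟨((z : S) : Ω), h.mem_of_mem_ker z.2⟩ : Q) := rfl

theorem act_one (z : h.res.ker) : h.act 1 z = z := rfl

theorem act_mul (a b : F.autGroup Q) (z : h.res.ker) : h.act (a * b) z = h.act a (h.act b z) := rfl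

theorem act_res (s : S) (z : h.res.ker) : (h.act (h.res s) z : S) = s * (z : S) * s⁻¹ :=
  Subtype.ext (h.res_apply _ _)

theorem weakly (R : Subgroup Ω) (hR : F.IsConj Q R) : R = Q := by
  obtain ⟨φ, hφ, hr⟩ := hR
  exact hr ▸ h.normal.stronglyClosed.weaklyClosed.2 φ hφ

theorem not_dvd_index : ¬ p ∣ h.res.range.index := by
  have hfin := h.finite_aut
  have hn : F.IsFullyNormalized Q := ⟨h.le, fun R hR => le_of_eq (by rw [h.weakly R hR])⟩
  obtain ⟨-, R, hR⟩ := h.saturated.isFullyAutomized_of_isFullyNormalized h.isPGroup hn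
  have e : h.res.range = (R : Subgroup (F.autGroup Q)) := by
    rw [hR]
    refine le_antisymm ?_ ?_
    · rintro _ ⟨s, rfl⟩
      exact Subgroup.mem_subgroupOf.mpr (mem_autInducedBy_iff.mpr
        ⟨s, s.2, h.normal.le_normalizer s.2, fun q => h.res_apply s q⟩)
    · intro a ha
      obtain ⟨g, hg, -, he⟩ := mem_autInducedBy_iff.mp (Subgroup.mem_subgroupOf.mp ha)
      exact ⟨⟨g, hg⟩, aut_ext fun q => (he q).symm⟩
  rw [e]
  exact R.not_dvd_index

theorem exists_aut {R : Subgroup Ω} {ψ : R →* Ω} (hψ : ψ ∈ F.Hom R) (hQR : Q ≤ R) :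
    ∃ a : F.autGroup Q, ∀ (q : Ω) (hq : q ∈ Q),
      ψ ⟨q, hQR hq⟩ = (((a : MulAut Q) ⟨q, hq⟩ : Q) : Ω) := by
  have hr : (ψ.comp (Subgroup.inclusion hQR)).range = Q := by
    rw [range_eq_map_of_le hQR]
    exact h.normal.stronglyClosed.map_eq hψ hQR
  exact ⟨⟨_, F.isoOf_mem_autGroup (F.restrict_mem hψ hQR) hr⟩, fun q hq => rfl⟩

theorem res_map {R : Subgroup Ω} {ψ : R →* Ω} (hψ : ψ ∈ F.Hom R) (hQR : Q ≤ R) (a : F.autGroup Q)
    (he : ∀ (q : Ω) (hq : q ∈ Q), ψ ⟨q, hQR hq⟩ = (((a : MulAut Q) ⟨q, hq⟩ : Q) : Ω))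
    (r : S) (hr : (r : Ω) ∈ R) :
    h.res ⟨ψ ⟨r, hr⟩, F.apply_mem hψ _⟩ = a * h.res r * a⁻¹ := by
  rw [eq_mul_inv_iff_mul_eq]
  refine aut_ext fun q => ?_
  show ψ ⟨r, hr⟩ * (((a : MulAut Q) q : Q) : Ω) * (ψ ⟨r, hr⟩)⁻¹ =
    (((a : MulAut Q) (((h.res r : F.autGroup Q) : MulAut Q) q) : Q) : Ω)
  have e : (((a : MulAut Q) q : Q) : Ω) = ψ ⟨q, hQR q.2⟩ := (he q q.2).symm
  rw [e, ← map_inv, ← map_mul, ← map_mul]
  refine (congrArg ψ ?_).trans (he _ (((h.res r : F.autGroup Q) : MulAut Q) q).2)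
  exact Subtype.ext (h.res_apply r q).symm

theorem res_aut (a : F.autGroup Q) {q : S} (hq : (q : Ω) ∈ Q) :
    h.res ⟨(((a : MulAut Q) ⟨q, hq⟩ : Q) : Ω), h.le (SetLike.coe_mem _)⟩ = a * h.res q * a⁻¹ := by
  obtain ⟨φ, hφ, -, hφe⟩ := F.exists_map_of_mem_autGroup h.le a.2
  rw [← h.res_map hφ le_rfl a (fun q hq => hφe ⟨q, hq⟩) q hq]
  exact congrArg h.res (Subtype.ext (hφe ⟨q, hq⟩).symm)

/-- An automorphism extends to any subgroup whose image it can normalise. -/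
theorem exists_ext (a : F.autGroup Q) {R : Subgroup Ω} (hQR : Q ≤ R) (hR : R ≤ S)
    (hc : ∀ r : S, (r : Ω) ∈ R → a * h.res r * a⁻¹ ∈ h.res.range) :
    ∃ ψ ∈ F.Hom R, ∀ (q : Ω) (hq : q ∈ Q), ψ ⟨q, hQR hq⟩ = (((a : MulAut Q) ⟨q, hq⟩ : Q) : Ω) := by
  obtain ⟨φ, hφ, hφr, hφe⟩ := F.exists_map_of_mem_autGroup h.le a.2
  have hrec := h.saturated.isReceptive_of_isFullyCentralized h.isPGroup h.centric.isFullyCentralized
  obtain ⟨ψ, hψ, hψe⟩ := hrec.2 Q φ hφ hφr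
  have hle : R ≤ extender S Q φ := by
    intro g hg
    refine (mem_extender_iff (F.apply_mem hφ)).mpr ⟨hR hg, h.normal.le_normalizer (hR hg), ?_⟩
    obtain ⟨w, hw⟩ := hc ⟨g, hR hg⟩ hg
    refine ⟨w, w.2, fun x hx => ?_⟩
    rw [eq_mul_inv_iff_mul_eq] at hw
    have h1 : (w : Ω) * (((a : MulAut Q) x : Q) : Ω) * (w : Ω)⁻¹ =
        (((a : MulAut Q) (((h.res ⟨g, hR hg⟩ : F.autGroup Q) : MulAut Q) x) : Q) : Ω) := by
      rw [← h.res_apply]
      exact congrArg (fun b : F.autGroup Q => (((b : MulAut Q) x : Q) : Ω)) hw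
    rw [hφe, hφe, h1]
    rfl
  refine ⟨_, F.restrict_mem hψ hle, fun q hq => ?_⟩
  show ψ ⟨q, _⟩ = _
  rw [hψe q hq, hφe]

end ModelSetup

end Cfsg.FusionSystem
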